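-- Certificate data for J1PB; generated by a coset enumerator, checked by the kernel.
import Cfsg.Agent.Lib.Compute.TCFast
import Cfsg.Agent.Lib.J1Ord.Pres
set_option autoImplicit false
set_option maxRecDepth 1000000

open Cfsg.Agent.Lib.Compute.ToddCoxeterCore Cfsg.Agent.Lib.Compute.ToddCoxeterPresented Cfsg.Agent.Lib.Compute.TCFast

namespace Cfsg.Agent.Lib.Compute.TC.J1PB

/-- the packed entries -/
noncomputable def tE : TT := .node (nat_lit 1024) (.leaf (nat_lit 0xffffff00000000000000000ffffff00000000030000a9800025700005f00000000000ffffff00000000000000000ffffff00000000000000000ffffff00000000000000000ffffff00000000000000000ffffff00000000000000000ffffff000000000300004a800029900001a00050000a4400025a00005c000500009830001d100009800000000000ffffff00000000000000000ffffff00000000000000000ffffff00000000000000a4400025900005e0000000061800028900000a000000004620001b400004b00000000000ffffff00000000000000000ffffff000000000000000720001b300004f000200004a30001b200004a00000000000ffffff000000000100007d900025c00007e0000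0000000ffffff00000000000000000ffffff00000000000000000ffffff00000000000000ce200025b00007d00000000000ffffff000000000000004a30001b000004a00000000000ffffff000000000400009730001c400009700000000000ffffff00000000000000000ffffff000000000100004930001aa00004900000000000ffffff000000000000000b20001ab00005300000000000ffffff000000000000004020001a600004c000000004820001a700004a00000000000ffffff000000000100004830001a500004800000000000ffffff00000000000000000ffffff00000000000000000ffffff00000000000000000ffffff000000000000006720002420000ae000000002b20001a200007a000000000720001a100008a000200004730001a0000047000000009440001c900005100000000000ffffff00000000000000000ffffff00000000000000000ffffff00000000000000000ffffff0000000001000047300019d00004700000000000ffffff000000000000004c200019e00007900000000000ffffff00000000000000000ffffff0000000005000046300019a00004600000000000ffffff0000000000000042200019b000086000000004720001e000006500000000000ffffff000000000400003490001df000064000000003920001de000034000000004820001980000830000000000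0ffffff0000000001000046300019700004600000000000ffffff00000000000000000ffffff000000000100004580001dd0000690000000040200019400008200000000000ffffff00000000000000000ffffff0000000001000045300019300004500000000000ffffff00000000000000000ffffff00000000000000000ffffff00000000000000000ffffff00000000050000443000191000044000000002d20001f80000a0000100006530001e300006500000000000ffffff00000000000000000ffffff000000000400006780001dc00003500000000000ffffff00000000000000000ffffff00000000000000000ffffff00000000000000000ffffff00000000000000000ffffff00000000000000000ffffff00000000020000ab800025300004f00000000000ffffff00000000000000000ffffff0000000000000023200018e00007100000000000ffffff00000000000000000ffffff0000000000000044300018d00004400000000000ffffff00000000000000000ffffff0000000005000043300018b00004300000000000ffffff00000000000000000ffffff00000000000000000ffffff00000000000000000ffffff00000000000000000ffffff00000000000000000ffffff0000000005000087300019500008700000000000ffffff00000000000000000ffffff00000000000000000fffff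f00000000000000000ffffff00000000000000000ffffff00000000000000000ffffff0000000005000042300018800004200000000000ffffff00000000000000000ffffff0000000000000047200022f00007300000000000ffffff000000000100007f800022c00007500000000000ffffff00000000000000000ffffff000000000000002b20001860000530000000007200018400007f0002000042300018300004200000000aa30002240000aa000400003b900022800007200000000f0200022700003b00000000000ffffff000000000000002d200017f0000520001000042300017e00004200020000803000185000080000000004c200018000006f000000004a800029800003300000000000ffffff0000000005000041300017a00004100030000a7400025000005e0000000042200017b00007d00000000000ffffff00000000000000000ffffff00000000000000000ffffff00000000000000000ffffff00000000000000000ffffff00000000000000000ffffff00000000000000000ffffff000000000200007e300017c00007e00000000000ffffff00000000020000aa80002a200003400000000000ffffff00000000000000000ffffff0000000000000023200017700004900000000000ffffff000000000000000a20002250000aa00000000403000176000040000500006d80002a300001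b000400003e300017400003e0000000049200025d00006d000000005020002610000a800000000000ffffff00000000000000000ffffff00000000000000000ffffff000000000300008b900024500006e00000000000ffffff00000000000000000ffffff000000000300008b30001a300008b00000000072000171000079000200003e300017000003e000000006620001c500009700000000000ffffff00000000000000000ffffff00000000000000000ffffff00000000000000000ffffff000000000100003e300016e00003e000200007a300017200007a00000000000ffffff000000000400003d90001ae00005200000000000ffffff00000000000000000ffffff00000000000000000ffffff00000000000000000ffffff00000000000000000ffffff00000000000000000ffffff00000000000000000ffffff00000000000000000ffffff00000000000000000ffffff00000000000000000ffffff0000000000000007200016b000076000200003d300016a00003d00000000000ffffff00000000000000000ffffff00000000000000000ffffff00000000000000000ffffff00000000000000000ffffff000000000100003d300016700003d00000000000ffffff000000000000004c200016800005d0004000099800028d000054000400003c300016300003c00000000000ffffff00000000030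00080400022e0000530000000045200016400007200000000000ffffff0000000000000080400022d0000aa00010000af800028600006900000000000ffffff00000000000000000ffffff00000000000000000ffffff00000000000000000ffffff000000000000004b20002800000b4000000003c300016100003c000500003b80002a100000c00000000000ffffff00000000000000000ffffff00000000000000000ffffff00000000000000000ffffff00000000000000000ffffff00000000000000a830002600000a80002000075800029600002a000400003b300015e00003b00000000000ffffff000000000300007f400022b000052000200007f400022a00004200020000753000165000075000000007f400022900006f00000000000ffffff00000000000000000ffffff00000000000000000ffffff00000000000000000ffffff000000000000001520002150000a400000000000ffffff000000000000003b300015c00003b00000000000ffffff00000000040000a8300024c0000a800000000000ffffff00000000000000000ffffff0000000000000007200015900006f0002000039300015800003900000000ae300023f0000ae000000007280002a400004200000000cc200024000005d00000000000ffffff00000000000000000ffffff0000000001000039300015600003900020000703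00015a000070000000007f300018100007f00000000000ffffff00000000000000000ffffff000000000500003730001540000370000000050200024400008b00000000000ffffff00000000000000000ffffff00000000000000000ffffff00000000000000758000295000035000400007b300025e00007b00000000000ffffff00000000000000000ffffff0000000001000037300015000003700000000000ffffff000000000000004c2000151000054000000000a90001d900002000000000000ffffff0000000005000036300014d00003600000000000ffffff0000000000000042200014e00006700000000000ffffff00000000000000d820001d800000a00010000b4800028400003600050000ac400027600006100000000000ffffff00000000000000000ffffff00000000000000000ffffff00000000020000b2300026f0000b200000000b1300026b0000b100000000000ffffff00000000000000000ffffff00000000000000000ffffff0000000000000000100027a0000b40000000007200014900006900020000363000148000036000000000010002700000b300000000000ffffff00000000000000000ffffff000000000000004820001460000650000000000100026c0000b200010000363000145000036000200006a300014a00006a0000000099300024a00009900000000000ffffff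00000000000000000ffffff00000000000000000ffffff000000000000000010002680000b1000000000010002640000b0000000000010002620000af00000000363000143000036000200006c80001da00004400000000000ffffff0000000005000035300014100003500000000000ffffff00000000000000000ffffff00000000000000000ffffff00000000000000000ffffff00000000000000000ffffff00000000000000000ffffff00000000000000000ffffff00000000000000000ffffff000000000100009a30001d700009a0000000000100023a0000ae0000000035300013f00003500000000000ffffff00000000000000000ffffff0000000005000034300013d000034000300009b30001e700009b000100008930001e1000089000000000420001e200008600000000000ffffff00000000000000000ffffff0000000004000034300013b00003400000000000ffffff00000000000000000ffffff00000000000000000ffffff00000000000000000ffffff00000000000000000ffffff00000000000000000ffffff00000000040000313000139000031000000000010002360000ad00000000000ffffff00000000000000000ffffff00000000000000000ffffff00000000000000000ffffff00000000000000000ffffff00000000000000000ffffff00000000000000000ffffff000000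0003000031300013600003100000000000ffffff000000000000008320001ff00005600000000222000137000032000500006b800028700002000000000000ffffff000000000000000010002340000ac000300009d300020800009d0000000007200013300006000020000313000132000031000000000010002300000ab0002000061800028b00004400000000000ffffff000000000000000010002210000aa000300009f400020300005600000000000ffffff00000000020000613000134000061000000009c4000206000056000300004b800029c00001400000000000ffffff0000000005000030300012f0000300000000000100021f0000a900000000000ffffff00000000000000000ffffff00000000000000000ffffff000000000300007e80002a700003d00000000000ffffff0000000000000000100021d0000a8000000000010002190000a70000000007200012c00005d0002000030300012b00003000000000a430002140000a4000500006f80002b800001200000000000ffffff000000000000000010002180000a6000000000010002160000a500000000000ffffff000000000200005e300012d00005e00000000000ffffff000000000500009080002a900000d00000000000ffffff000000000000000010002110000a4000300002f300012800002f00000000000ffffff000000000000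00000ffffff00000000000000000ffffff00000000000000000ffffff00000000000000000ffffff00000000000000000ffffff00000000000000000ffffff00000000010000a330002100000a300000000000ffffff00000000000000a2300020c0000a200000000000ffffff00000000000000000ffffff00000000000000000ffffff0000000000000000100020d0000a300000000000ffffff000000000200002e300012500002e00000000000ffffff00000000000000000ffffff00000000000000000ffffff00000000000000000ffffff000000000000000010002090000a200000000000ffffff00000000000000000ffffff000000000000002e300012300002e00000000000ffffff00000000000000000ffffff00000000000000000ffffff000000000300002c300011f00002c00000000000ffffff000000000000002c200012000002d00000000a130001fd0000a100000000000ffffff00000000000000000ffffff00000000000000000ffffff000000000000000010001fa0000a100000000000ffffff000000000100009640001cd000051000000002c300011d00002c00000000608000292000021000000000010001f40000a0000500002a300011b00002a000000000010001f200009f000000000010001ee00009e000000000010001ea00009d000000000010001e800009c00000000000f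fffff000000000000000010001e400009b00000000000ffffff00000000000000000ffffff00000000000000072000118000054000200002a300011700002a000000000010001d400009a00000000000ffffff000000000000000010001d200009900000000000ffffff000000000000002d2000115000050000100002a300011400002a00020000553000119000055000000006d300015200006d0003000075800029700005000000000000ffffff00000000000000000ffffff00000000000000000ffffff0000000000000007200011100005200020000293000110000029000000008d30001ac00008d000300007280002a500000d00000000cc20001ad00003d00000000000ffffff00000000000000000ffffff0000000001000029300010e00002900020000533000112000053000000000010001ce00009800000000000ffffff00000000000000000ffffff0000000005000027300010c000027000000000010001c1000097000000000010001bf000096000000000010001bd000095000000000010001bb00009400000000000ffffff00000000000000000ffffff00000000000000000ffffff00000000000000000ffffff0000000001000027300010a00002700000000000ffffff00000000000000000ffffff000000000200008f800028f00002100000000000ffffff000000000500002630001060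00026000000000010001b80000930000000042200010700004a00000000000ffffff000000000000000010001b700009200000000000ffffff00000000000000000ffffff0000000000000043200010400004c00000000000ffffff0000000000000007200010200004d0002000026300010100002600000000000ffffff00000000000000000ffffff00000000000000000ffffff000000000000004820000fe00004800000000000ffffff000000000100002630000fd000026000200004e300010300004e00000000000ffffff00000000000000000ffffff00000000000000000ffffff00000000000000000ffffff00000000000000000ffffff000000000000000720000fb00004b000200002530000fa00002500000000000ffffff000000000500008f800029000001a00000000000ffffff00000000000000000ffffff000000000000000010001b600009100000000000ffffff00000000000000000ffffff00000000000000000ffffff000000000100008f800028e000014000400008c30001a800008c000500002330000f7000023000000000010001b5000090000000000010001b100008f000200004f300010800004f000000000010001af00008e000000002380002aa00001000000000000ffffff00000000000000000ffffff00000000000000000ffffff00000000000000000ffffff0000000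00000000010001a900008d000000002330000f500002300000000000ffffff000000000400004d30000ff00004d000500002230000f300002200000000000ffffff00000000000000000ffffff000000000000000010001a400008c00000000000ffffff000000000000004f800029b00004400000000000ffffff00000000000000000ffffff000000000000002320000f100003e0000000000100019f00008b0000000000100019c00008a000000002130000f000002100000000000ffffff00000000000000001000199000089000500002030000ee00002000000000000ffffff00000000000000000ffffff0000000000000000100019600008800000000000ffffff000000000400006c80001db000036000400002030000ec00002000000000000ffffff00000000000000000ffffff00000000000000000ffffff0000000000000000100019200008700000000000ffffff0000000003000056800029f00001b000000000010001900000860000000000100018f000085000000002b20000ea00003b00000000000ffffff000000000200002030000e90000200000000000100018c0000840001000061800028a0000310000000000100018a0000830000000000100018900008200000000000ffffff000000000100002030000e600002000000000000ffffff000000000000004c20000e700002b0000000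02a80002b200000f0000000000100018700008100000000000ffffff000000000000002320000e4000029000000000010001820000800000000000100017d00007f000000001e30000e300001e00000000000ffffff0000000000000000100017900007e000500001d30000e100001d00000000000ffffff00000000000000000ffffff00000000000000000ffffff00000000000000000ffffff000000000300002380002ad0000130000000000100017800007d00000000000ffffff000000000000002b20000de000023000000000720000dd00003f000200001d30000dc00001d0000000000100017500007c00000000000ffffff00000000000000000ffffff00000000000000000ffffff00000000000000000ffffff000000000100001d30000d900001d00000000000ffffff000000000000004c20000da00003f000300004780002ae00002100000000000ffffff0000000000000000100017300007b00000000000ffffff0000000000000000100016f00007a0000000000100016d000079000000001b30000d700001b000500005280002bb00001200000000000ffffff0000000000000000100016c000078000000002320000d40000330000000000100016900007700000000001000166000076000000001a30000d300001a00000000000ffffff000000000400001930000d10000190000000000100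016200007500000000000ffffff00000000000000000ffffff00000000000000000ffffff00000000000000001000160000074000300006080002930000210000000000100015f0000730000000000100015d00007200000000000ffffff00000000000000000ffffff000000000200001930000cf0000190000000000100015b00007100000000000ffffff000000000400003230000cb00003200000000000ffffff000000000300001730000c5000017000000002a20000c8000038000000002c20000c600001800000000000ffffff00000000000000000ffffff00000000000000000ffffff00000000000000000ffffff00000000000000000ffffff000000000000000010001570000700000000000100015500006f000000001730000c300001700000000000ffffff00000000000000000ffffff000000000000004820000cc000032000300001630000be000016000000002a20000bf000018000200003a30000c900003a00000000000ffffff00000000000000000ffffff0000000000000000100015300006e00000000000ffffff00000000000000000ffffff00000000000000000ffffff0000000000000000100014f00006d000000001630000bc00001600000000000ffffff0000000000000000100014c00006c000500001530000ba0000150000000000100014b00006b0000000000100014700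006a000000000010001440000690000000000100014200006800000000000ffffff0000000000000000100014000006700000000000ffffff00000000000000000ffffff000000000000000720000b8000034000200001530000b70000150000000000100013e000066000000007c80002b40000130000000000100013c0000650000000000100013a00006400000000000ffffff000000000100001530000b100001500000000000ffffff000000000000004c20000b200003400000000000ffffff00000000000000000ffffff00000000000000000ffffff000000000300003d30000d500003d00000000000ffffff00000000000000000ffffff00000000000000000ffffff00000000000000000ffffff000000000400003830000cd000038000000004320000ca00003a000300001230000ad00001200000000000ffffff000000000000002c20000ae00001300000000000ffffff00000000000000000ffffff00000000000000000ffffff00000000000000001000138000063000000000010001350000620000000000100013100006100000000001000130000060000000001230000ab000012000400005f80002af0000050000000000100012e00005f00000000000ffffff00000000000000000ffffff0000000000000000100012a00005e0000000000100012900005d00000000000ffffff00000000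0300005c80002be00000a00000000000ffffff000000000500001030000a80000100000000000100012700005c00000000000ffffff00000000000000000ffffff00000000000000000ffffff00000000000000000ffffff000000000400001030000a600001000000000000ffffff0000000000000000100012600005b0000000000100012400005a00000000000ffffff0000000000000000100012200005900000000000ffffff00000000000000000ffffff00000000000000000ffffff000000000300001030000a20000100001000058300012100005800000000000ffffff000000000000002220000a300001300000000000ffffff00000000000000000ffffff00000000000000000ffffff0000000000000000100011e0000580000000007200009f00002b0002000010300009e0000100000000000100011c0000570000000043800029100001200000000000ffffff00000000000000000ffffff00000000000000000ffffff0000000001000010300009c000010000200002c30000a000002c00000000000ffffff000000000400005680002a000001e0000000000100011a00005600000000000ffffff000000000000002320000990000270000000000100011600005500000000001000113000054000000000f300009800000f000000005280002b900000a00000000000ffffff00000000000000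000ffffff00000000000000000ffffff0000000000000000100010f0000530000000000100010d000052000000000d300009600000d0001000009900009100000f00000000000ffffff00000000000000000ffffff000000000300000c300008f00000c000000002a200009000000900000000000ffffff00000000000000000ffffff000000000200005380002a600000d0000000000100010b00005100000000000ffffff000000000300002a300009a00002a00000000000ffffff00000000000000001000109000050000000000c300008d00000c00000000000ffffff0000000000000000100010500004f000500000b300008b00000b00000000000ffffff0000000000000000100010000004e000000000010000fc00004d00000000000ffffff00000000000000000ffffff00000000000000000ffffff00000000000000000ffffff00000000000000000ffffff000000000000000010000f900004c000000000010000f800004b00000000000ffffff0000000000000009900008700001d00000000000ffffff00000000000000000ffffff000000000300000b300008500000b00000000000ffffff00000000000000000ffffff00000000000000222000086000009000400004a800029a000005000000000010000f600004a00000000000ffffff000000000300004030000df00004000000000072000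082000022000200000b300008100000b000000000010000f4000049000200002380002ac000012000000000010000f200004800000000000ffffff00000000000000000ffffff000000000100000b300007b00000b00020000233000083000023000000004c200007c000022000300007b80002b600000d0000000046200007900000c0000000043200007700001e000000002b200007500001b00000000000ffffff000000000200000a300007400000a000000000010000ef000047000000001980002b1000007000000000010000ed000046000000000010000eb00004500000000232000071000019000000000010000e8000044000000000010000e5000043000000000a300007000000a000000000b900007e00000400000000000ffffff00000000000000000ffffff0000000003000009300006e00000900000000000ffffff00000000000000000ffffff0000000000000077200007d00000b00000000000ffffff000000000400002130000780000210000000043200006c000011000300000d300009400000d0000000007200006a00000f00020000093000069000009000000000010000e200004200000000000ffffff000000000000000010000e000004100000000000ffffff0000000003000024400008800000b000000000010000db000040000000000010000d800003f00000000093000067000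009000300000690000b40000180004000008300006500000800000000000ffffff000000000000007620000b300000600000000000ffffff00000000000000000ffffff00000000000000000ffffff00000000000000000ffffff000000000400000f300006300000f00000000432000060000017000300002130000760000210000000007200005e00001a0002000007300005d000007000000000010000d600003e00000000000ffffff0000000000000040200005800000d0000000048200005a00000a000000002d200005600001400010000073000055000007000200001b300005f00001b000000000010000d200003d0001000056800029e00000a00000000000ffffff000000000000000010000d000003c00030000203000072000020000000000010000ce00003b00000000000ffffff0000000000000007300005300000700000000000ffffff000000000500001c40000b5000008000000004920000c100003800000000000ffffff000000000100003a30000c700003a000200003830000c000003800000000000ffffff00000000000000000ffffff000000000400001b300006100001b00000000000ffffff000000000000000010000c400003a0000000007200004f0000160002000006300004e000006000000000010000c200003900000000000ffffff0000000000000040200004a000009000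0000048200004c000012000000000010000bd0000380001000006300004900000600020000173000050000017000000000010000bb00003700000000000ffffff000000000000000010000b900003600000000000ffffff00000000000000000ffffff000000000000000010000b6000035000000000010000b00000340000000006300004700000600000000000ffffff00000000000000000ffffff00000000050000053000043000005000300001a300005700001a0000000042200004400000a00000000000ffffff000000000000000010000af00003300000000000ffffff00000000000000000ffffff000000000000005120000410000080003000005300004000000500000000000ffffff00000000000000000ffffff000000000000002d30000a400002d000200005e80002bc00000400000000000ffffff0000000000000043200003d00000d000000000010000ac0000320000000007200003b0000110002000005300003a000005000000000010000aa000031000200002b800029d00001000000000000ffffff0000000000000048200003700000700000000000ffffff000000000100000530000360000050002000012300003c000012000000000010000a9000030000100002380002ab00000b000000000010000a700002f000000000010000a500002e000000000010000a100002d000000000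0100009d00002c0000000000100009b00002b00000000053000034000005000500007b80002b700000d000400000430000300000040000000049200006200001b0003000028400009200000c00000000452000031000009000200001e300006b00001e0000000000100009700002a000300001f800007f00000900000000000ffffff00000000000000000ffffff00000000000000000ffffff00000000000000000ffffff00000000000000000ffffff00000000000000000ffffff000000000000009880002bd0000070004000012300003e000012000500001a300005900001a000000002d200009300001e0000000007200002c00000c0002000004300002b00000400000000001000095000029000200005280002ba00000a0000000040200002800000600000000000ffffff0000000000000000100008e00002800010000043000027000004000200000d300002d00000d0000000000100008c000027000300007c80002b50000040000000000100008a0000260000000000100008900002500000000001000084000024000000000010000800000230000000000100007a00002200000000043000025000004000100001080002bf000004000400001a300005b00001a00050000033000021000003000000005020000220000070000000000100007300002100020000143000045000014000000000010000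6f00002000000000000ffffff0000000004000003300001f0000030005000016300004b0000160000000000100006d00001f0000000000100006800001e000200000f300003200000f0000000000100006600001d00000000000ffffff00000000000000000ffffff0000000000000000100006400001c00000000000ffffff0000000001000008300001d000008000000000a200001c0000080000000003300001b00000300000000000ffffff0000000004000011300003800001100050000023000019000002000300000a300002300000a0000000000100005c00001b0000000000100005400001a0000000000100005200001900000000000ffffff00000000040000023000017000002000500000c300002900000c000000000010000510000180000000000100004d0000170000000000100004800001600000000001000046000015000000001180002b000000400000000001000042000014000500000130000150000010000000000100003f000013000000000010000390000120000000000100003500001100000000001000033000010000500001080002c0000001000400000130000130000010000000000100002f00000f0000000000100002e00000e0000000000100002a00000d0000000000100002600000c0000000000100002400000b00000000000ffffff000000000000000010000200000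0a0000000000100001e000009000000002b20000110000030000000007200000f0000020002000001300000e0000010000000000100001a00000800000000000ffffff0000000000000000100001800000700000000001000016000006000000002d200000b0000020001000001300000a00000100020000033000010000003000000004c200000c000002000000002280002c10000000000000000100001400000500000000001000012000004000000002320000080000010000000000100000d000003000000000010000090000020000000000300000700000000000000000ffffff000000000400000030000050000000000000003500000400000000000000025000003000000000100000030000020000000000000001500000100000000000000001000006000001)) (.leaf (nat_lit 0x150000af700028200006800000000000ffffff00000000000000000ffffff000000000300006a300027b00006a000000002a200027f0000ad000000002c200027e00006b0000000022200027c0000af00000000000ffffff00000000000000000ffffff00000000000000000ffffff00000000030000af30002790000af000000009120002720000b100000000000ffffff000000000000006a300027100006a00010000ac80002770000ad00000000000ffffff00000000000000000ffffff00000000030000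69300026d000069000000002a200026e00006b00000000000ffffff00000000000000000ffffff00000000000000000ffffff00000000000000000ffffff00000000000000000ffffff0000000003000068300026900006800000000000ffffff00000000020000b330002730000b30000000022200026a00006b00020000b4800028500007400000000000ffffff00000000000000000ffffff00000000000000000ffffff000000000000000720002660000af0002000068300026500006800000000000ffffff00000000000000b4800028300003600000000000ffffff00000000000000000ffffff000000000000002d20002780000b30001000068300026300006800020000b030002670000b000000000b4300027d0000b4007600002e700024600005b000400008b300024300008b00000000000ffffff00000000000000000ffffff0000000001000066300023b0000660000000004200023c00009a000000004c200023e00007000020000b490002810000740004000063300023700006300000000000ffffff00000000000000000ffffff000000000000004520002380000ac00000000000ffffff00000000000000000ffffff00000000000000b1900027500006b0004000061300023500006100000000000ffffff00000000000000000ffffff00000000000000000ffffff00000000020000ad3000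2390000ad000000004a20002740000b1000200004a900025200008f000000004f20002330000a900000000000ffffff00000000000000000ffffff000000000000004d20002320000840000000083200025100004a00000000613000231000061000400006080002940000350004000060300022200006000000000000ffffff00000000000000000ffffff000000000100007c300022600007c00000000000ffffff000000000000004a200022300008000050000ab800025400004b00000000000ffffff00000000000000000ffffff000000000300005f300022000005f00000000000ffffff00000000000000000ffffff00000000000000000ffffff000000000000007380002b300000d000400005e300021e00005e0000000049200024b00007000000000000ffffff00000000000000000ffffff00000000000000000ffffff00000000000000e7200025f00007300010000a5800024f00007e00000000000ffffff00000000000000000ffffff000000000300005e300021a00005e000000002a200021b0000a500000000000ffffff00000000000000000ffffff000000000400005d900024100006f00000000000ffffff00000000000000000ffffff00000000000000000ffffff00000000000000000ffffff00000000000000000ffffff00000000000000000ffffff0000000005000040900024e000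07d00000000000ffffff0000000000000051200024d000040000300005d300021700005d00000000000ffffff00000000020000a7300021c0000a700000000000ffffff00000000020000938000258000090000400005c300021200005c00000000000ffffff00000000000000000ffffff00000000000000000ffffff00000000000000000ffffff000000000000004a200021300005e00020000ae800024800006600000000000ffffff00000000000000000ffffff000000000300005a300020e00005a00000000000ffffff000000000000002c200020f00005b00000000000ffffff00000000000000ae800024700007000000000000ffffff00000000000000000ffffff0000000003000059300020a00005900000000000ffffff00000000000000000ffffff0000000000000022200020b00005b00000000000ffffff00000000000000000ffffff00000000000000000ffffff000000000300005730001fb00005700000000000ffffff000000000000002c20001fe000097000000002220001fc00005800000000000ffffff00000000000000000ffffff000000000500005630001f5000056000300008630001f9000086000000004220001f600009b00000000000ffffff00000000000000000ffffff0000000001000031900020200006000000000000ffffff00000000000000000ffffff000000000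300005630001f3000056000000002a200020100003100000000000ffffff00000000000000000ffffff0000000002000056900020000006200000000000ffffff00000000000000000ffffff00000000000000000ffffff000000000000000720001f000009d000200005630001ef00005600000000000ffffff0000000003000061800028c00001900000000000ffffff000000000000004820001ec000099000000002b2000207000061000100005630001eb000056000200009e30001f100009e00000000000ffffff0000000001000031900020500006000000000000ffffff00000000000000000ffffff00000000000000000ffffff000000000000004d200020400003100000000000ffffff000000000000005630001e900005600000000000ffffff00000000000000000ffffff000000000500005530001e5000055000000005020001e600006500000000000ffffff00000000020000a030001f70000a000000000000ffffff00000000000000000ffffff00000000000000000ffffff00000000000000000ffffff00000000000000000ffffff00000000010000ae300023d0000ae000000000a20001d6000066000000005530001d50000550000000074800028800003c000400009d30001ed00009d000500005430001d300005400000000000ffffff00000000000000000ffffff000000000000000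00ffffff00000000000000cd2000249000069000400009080002a800000a000000004f20001d000009000000000000ffffff00000000000000000ffffff00000000000000000ffffff00000000000000000ffffff000000000000005230001cf00005200000000000ffffff00000000000000000ffffff000000000000005120001c300008d000300005130001c200005100000000000ffffff00000000000000000ffffff000000000000007a30001c600007a000000002c90001cc00005700000000000ffffff00000000000000000ffffff00000000000000000ffffff00000000000000000ffffff000000000200005130001c0000051000000001420001cb00002c00000000000ffffff00000000000000000ffffff00000000000000000ffffff00000000000000000ffffff000000000100005130001be00005100000000000ffffff000000000000000b20001ca000077000300007a90001c800008b00000000000ffffff00000000000000000ffffff000000000000002320001c700007a00000000000ffffff00000000000000000ffffff000000000000005130001bc0000510003000084800025600007100000000000ffffff00000000000000000ffffff000000000300004f30001b900004f000000002a20001ba00009000000000000ffffff00000000000000000ffffff0000000000000084800025500004400000000000ffffff00000000000000000ffffff00000000000000000ffffff00000000000000000ffffff000000))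
/-- the definitions -/
noncomputable def tP : TT := .leaf (nat_lit 0x2e9000002e6000002e2000002db000002da000002d9000002cb000002b9000002ab000002a7000002a40000029c00000296000002950000028f0000028e000002880000027900000272000002640000025f0000025d0000025c0000025b0000025a0000025800000253000002510000023e0000023a0000023900000238000002370000022c000002290000021000000209000002080000020600000200000001f9000001f3000001f2000001ef000001eb000001e4000001e1000001e0000001dc000001da000001d9000001d3000001d0000001cf000001cc000001c5000001c0000001b6000001b4000001b3000001af000001ad000001ac000001a8000001a4000001a2000001a10000019d000001910000019000000186000001820000017f0000017d0000017c0000017b0000017a000001780000017300000171000001700000015b0000015a00000159000001580000015500000152000001510000014c00000145000001440000014200000137000001340000012b0000012800000127000001210000012000000116000001120000010f0000010c0000010b0000010500000104000000fa000000f5000000f3000000e7000000e5000000e4000000e2000000e1000000d2000000d0000000cd000000cc000000bd000000b6000000b3000000b1000000a4000000a10000009d0000009a0000009800000095000000940000008c000000810000007e000000770000007500000074000000730000007200000071000000690000005b00000057000000540000005200000051000000500000004f0000004e000000480000004600000042000000410000003f0000003c0000003300000032000000310000002d0000002c0000002b0000002a0000002800000026000000250000002400000023000000200000001f0000001e0000001d0000001c0000001a000000190000001500000013000000120000000c0000000b00000009000000080000000000000000)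
/-- the parents -/
noncomputable def tQ : TT := .leaf (nat_lit 0x0)
/-- the orbit tables -/
noncomputable def tO : TT := .leaf (nat_lit 0x0)
/-- the rule table -/
noncomputable def rT : RT := .node (nat_lit 122) (.node (nat_lit 61) (.node (nat_lit 30) (.node (nat_lit 15) (.node (nat_lit 7) (.node (nat_lit 3) (.node (nat_lit 1) (.leaf (nat_lit 0) (nat_lit 0) [nat_lit 0]) (.node (nat_lit 2) (.leaf (nat_lit 0) (nat_lit 0) [nat_lit 0]) (.leaf (nat_lit 0) (nat_lit 0) [nat_lit 0]))) (.node (nat_lit 5) (.node (nat_lit 4) (.leaf (nat_lit 0) (nat_lit 0) [nat_lit 0]) (.leaf (nat_lit 4) (nat_lit 1) [nat_lit 2, nat_lit 2])) (.node (nat_lit 6) (.leaf (nat_lit 4) (nat_lit 1) [nat_lit 2, nat_lit 2]) (.leaf (nat_lit 4) (nat_lit 1) [nat_lit 2, nat_lit 2])))) (.node (nat_lit 11) (.node (nat_lit 9) (.node (nat_lit 8) (.leaf (nat_lit 7) (nat_lit 2) [nat_lit 1, nat_lit 1]) (.leaf (nat_lit 7) (nat_lit 2) [nat_lit 1, nat_lit 1])) (.node (nat_lit 10) (.leaf (nat_lit 7) (nat_lit 2) [nat_lit 1, nat_lit 1]) (.leaf (nat_lit 10) (nat_lit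 1) [nat_lit 0, nat_lit 2, nat_lit 0, nat_lit 2, nat_lit 0, nat_lit 2, nat_lit 0, nat_lit 2, nat_lit 0]))) (.node (nat_lit 13) (.node (nat_lit 12) (.leaf (nat_lit 11) (nat_lit 0) [nat_lit 2, nat_lit 0, nat_lit 2, nat_lit 0, nat_lit 2, nat_lit 0, nat_lit 2, nat_lit 0, nat_lit 2]) (.leaf (nat_lit 10) (nat_lit 1) [nat_lit 0, nat_lit 2, nat_lit 0, nat_lit 2, nat_lit 0, nat_lit 2, nat_lit 0, nat_lit 2, nat_lit 0])) (.node (nat_lit 14) (.leaf (nat_lit 11) (nat_lit 0) [nat_lit 2, nat_lit 0, nat_lit 2, nat_lit 0, nat_lit 2, nat_lit 0, nat_lit 2, nat_lit 0, nat_lit 2]) (.leaf (nat_lit 10) (nat_lit 1) [nat_lit 0, nat_lit 2, nat_lit 0, nat_lit 2, nat_lit 0, nat_lit 2, nat_lit 0, nat_lit 2, nat_lit 0]))))) (.node (nat_lit 22) (.node (nat_lit 18) (.node (nat_lit 16) (.leaf (nat_lit 11) (nat_lit 0) [nat_lit 2, nat_lit 0, nat_lit 2, nat_lit 0, nat_lit 2, nat_lit 0, nat_lit 2, nat_lit 0, nat_lit 2]) (.node (nat_lit 17) (.leaf (nat_lit 10) (nat_lit 1) [nat_lit 0, nat_lit 2, nat_lit 0, nat_lit 2, nat_lit 0, nat_lit 2, nat_lit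 0, nat_lit 2, nat_lit 0]) (.leaf (nat_lit 11) (nat_lit 0) [nat_lit 2, nat_lit 0, nat_lit 2, nat_lit 0, nat_lit 2, nat_lit 0, nat_lit 2, nat_lit 0, nat_lit 2]))) (.node (nat_lit 20) (.node (nat_lit 19) (.leaf (nat_lit 10) (nat_lit 1) [nat_lit 0, nat_lit 2, nat_lit 0, nat_lit 2, nat_lit 0, nat_lit 2, nat_lit 0, nat_lit 2, nat_lit 0]) (.leaf (nat_lit 11) (nat_lit 0) [nat_lit 2, nat_lit 0, nat_lit 2, nat_lit 0, nat_lit 2, nat_lit 0, nat_lit 2, nat_lit 0, nat_lit 2])) (.node (nat_lit 21) (.leaf (nat_lit 20) (nat_lit 0) [nat_lit 1, nat_lit 0, nat_lit 1, nat_lit 0, nat_lit 1, nat_lit 0, nat_lit 1, nat_lit 0, nat_lit 1]) (.leaf (nat_lit 21) (nat_lit 2) [nat_lit 0, nat_lit 1, nat_lit 0, nat_lit 1, nat_lit 0, nat_lit 1, nat_lit 0, nat_lit 1, nat_lit 0])))) (.node (nat_lit 26) (.node (nat_lit 24) (.node (nat_lit 23) (.leaf (nat_lit 20) (nat_lit 0) [nat_lit 1, nat_lit 0, nat_lit 1, nat_lit 0, nat_lit 1, nat_lit 0, nat_lit 1, nat_lit 0, nat_lit 1]) (.leaf (nat_lit 21) (nat_lit 2) [nat_lit 0, nat_lit 1, nat_lit 0, nat_lit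 1, nat_lit 0, nat_lit 1, nat_lit 0, nat_lit 1, nat_lit 0])) (.node (nat_lit 25) (.leaf (nat_lit 20) (nat_lit 0) [nat_lit 1, nat_lit 0, nat_lit 1, nat_lit 0, nat_lit 1, nat_lit 0, nat_lit 1, nat_lit 0, nat_lit 1]) (.leaf (nat_lit 21) (nat_lit 2) [nat_lit 0, nat_lit 1, nat_lit 0, nat_lit 1, nat_lit 0, nat_lit 1, nat_lit 0, nat_lit 1, nat_lit 0]))) (.node (nat_lit 28) (.node (nat_lit 27) (.leaf (nat_lit 20) (nat_lit 0) [nat_lit 1, nat_lit 0, nat_lit 1, nat_lit 0, nat_lit 1, nat_lit 0, nat_lit 1, nat_lit 0, nat_lit 1]) (.leaf (nat_lit 21) (nat_lit 2) [nat_lit 0, nat_lit 1, nat_lit 0, nat_lit 1, nat_lit 0, nat_lit 1, nat_lit 0, nat_lit 1, nat_lit 0])) (.node (nat_lit 29) (.leaf (nat_lit 20) (nat_lit 0) [nat_lit 1, nat_lit 0, nat_lit 1, nat_lit 0, nat_lit 1, nat_lit 0, nat_lit 1, nat_lit 0, nat_lit 1]) (.leaf (nat_lit 21) (nat_lit 2) [nat_lit 0, nat_lit 1, nat_lit 0, nat_lit 1, nat_lit 0, nat_lit 1, nat_lit 0, nat_lit 1, nat_lit 0])))))) (.node (nat_lit 45) (.node (nat_lit 37) (.node (nat_lit 33) (.node (nat_lit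 31) (.leaf (nat_lit 30) (nat_lit 3) [nat_lit 3]) (.node (nat_lit 32) (.leaf (nat_lit 30) (nat_lit 3) [nat_lit 3]) (.leaf (nat_lit 30) (nat_lit 3) [nat_lit 3]))) (.node (nat_lit 35) (.node (nat_lit 34) (.leaf (nat_lit 30) (nat_lit 3) [nat_lit 3]) (.leaf (nat_lit 34) (nat_lit 0) [nat_lit 3, nat_lit 0, nat_lit 3])) (.node (nat_lit 36) (.leaf (nat_lit 35) (nat_lit 3) [nat_lit 0, nat_lit 3, nat_lit 0]) (.leaf (nat_lit 34) (nat_lit 0) [nat_lit 3, nat_lit 0, nat_lit 3])))) (.node (nat_lit 41) (.node (nat_lit 39) (.node (nat_lit 38) (.leaf (nat_lit 35) (nat_lit 3) [nat_lit 0, nat_lit 3, nat_lit 0]) (.leaf (nat_lit 35) (nat_lit 3) [nat_lit 0, nat_lit 3, nat_lit 0])) (.node (nat_lit 40) (.leaf (nat_lit 34) (nat_lit 0) [nat_lit 3, nat_lit 0, nat_lit 3]) (.leaf (nat_lit 35) (nat_lit 3) [nat_lit 0, nat_lit 3, nat_lit 0]))) (.node (nat_lit 43) (.node (nat_lit 42) (.leaf (nat_lit 34) (nat_lit 0) [nat_lit 3, nat_lit 0, nat_lit 3]) (.leaf (nat_lit 42) (nat_lit 2) [nat_lit 3, nat_lit 2, nat_lit 3])) (.node (nat_lit 44) (.leaf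 (nat_lit 43) (nat_lit 3) [nat_lit 1, nat_lit 3, nat_lit 2]) (.leaf (nat_lit 44) (nat_lit 1) [nat_lit 3, nat_lit 1, nat_lit 3]))))) (.node (nat_lit 53) (.node (nat_lit 49) (.node (nat_lit 47) (.node (nat_lit 46) (.leaf (nat_lit 45) (nat_lit 3) [nat_lit 2, nat_lit 3, nat_lit 1]) (.leaf (nat_lit 45) (nat_lit 3) [nat_lit 2, nat_lit 3, nat_lit 1])) (.node (nat_lit 48) (.leaf (nat_lit 42) (nat_lit 2) [nat_lit 3, nat_lit 2, nat_lit 3]) (.leaf (nat_lit 43) (nat_lit 3) [nat_lit 1, nat_lit 3, nat_lit 2]))) (.node (nat_lit 51) (.node (nat_lit 50) (.leaf (nat_lit 44) (nat_lit 1) [nat_lit 3, nat_lit 1, nat_lit 3]) (.leaf (nat_lit 50) (nat_lit 4) [nat_lit 5, nat_lit 5, nat_lit 5, nat_lit 5, nat_lit 5, nat_lit 5])) (.node (nat_lit 52) (.leaf (nat_lit 50) (nat_lit 4) [nat_lit 5, nat_lit 5, nat_lit 5, nat_lit 5, nat_lit 5, nat_lit 5]) (.leaf (nat_lit 50) (nat_lit 4) [nat_lit 5, nat_lit 5, nat_lit 5, nat_lit 5, nat_lit 5, nat_lit 5])))) (.node (nat_lit 57) (.node (nat_lit 55) (.node (nat_lit 54) (.leaf (nat_lit 50) (nat_lit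 4) [nat_lit 5, nat_lit 5, nat_lit 5, nat_lit 5, nat_lit 5, nat_lit 5]) (.leaf (nat_lit 50) (nat_lit 4) [nat_lit 5, nat_lit 5, nat_lit 5, nat_lit 5, nat_lit 5, nat_lit 5])) (.node (nat_lit 56) (.leaf (nat_lit 50) (nat_lit 4) [nat_lit 5, nat_lit 5, nat_lit 5, nat_lit 5, nat_lit 5, nat_lit 5]) (.leaf (nat_lit 50) (nat_lit 4) [nat_lit 5, nat_lit 5, nat_lit 5, nat_lit 5, nat_lit 5, nat_lit 5]))) (.node (nat_lit 59) (.node (nat_lit 58) (.leaf (nat_lit 57) (nat_lit 5) [nat_lit 4, nat_lit 4, nat_lit 4, nat_lit 4, nat_lit 4, nat_lit 4]) (.leaf (nat_lit 57) (nat_lit 5) [nat_lit 4, nat_lit 4, nat_lit 4, nat_lit 4, nat_lit 4, nat_lit 4])) (.node (nat_lit 60) (.leaf (nat_lit 57) (nat_lit 5) [nat_lit 4, nat_lit 4, nat_lit 4, nat_lit 4, nat_lit 4, nat_lit 4]) (.leaf (nat_lit 57) (nat_lit 5) [nat_lit 4, nat_lit 4, nat_lit 4, nat_lit 4, nat_lit 4, nat_lit 4]))))))) (.node (nat_lit 91) (.node (nat_lit 76) (.node (nat_lit 68) (.node (nat_lit 64) (.node (nat_lit 62) (.leaf (nat_lit 57) (nat_lit 5) [nat_lit 4, nat_lit 4, nat_lit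 4, nat_lit 4, nat_lit 4, nat_lit 4]) (.node (nat_lit 63) (.leaf (nat_lit 57) (nat_lit 5) [nat_lit 4, nat_lit 4, nat_lit 4, nat_lit 4, nat_lit 4, nat_lit 4]) (.leaf (nat_lit 57) (nat_lit 5) [nat_lit 4, nat_lit 4, nat_lit 4, nat_lit 4, nat_lit 4, nat_lit 4]))) (.node (nat_lit 66) (.node (nat_lit 65) (.leaf (nat_lit 64) (nat_lit 5) [nat_lit 2, nat_lit 5, nat_lit 1, nat_lit 4]) (.leaf (nat_lit 65) (nat_lit 5) [nat_lit 4, nat_lit 2, nat_lit 5, nat_lit 1])) (.node (nat_lit 67) (.leaf (nat_lit 66) (nat_lit 2) [nat_lit 4, nat_lit 4, nat_lit 2, nat_lit 5]) (.leaf (nat_lit 67) (nat_lit 4) [nat_lit 1, nat_lit 4, nat_lit 4, nat_lit 2])))) (.node (nat_lit 72) (.node (nat_lit 70) (.node (nat_lit 69) (.leaf (nat_lit 68) (nat_lit 1) [nat_lit 5, nat_lit 1, nat_lit 4, nat_lit 4]) (.leaf (nat_lit 69) (nat_lit 2) [nat_lit 5, nat_lit 5, nat_lit 2, nat_lit 4])) (.node (nat_lit 71) (.leaf (nat_lit 70) (nat_lit 5) [nat_lit 1, nat_lit 5, nat_lit 5, nat_lit 2]) (.leaf (nat_lit 71) (nat_lit 1) [nat_lit 4, nat_lit 1, nat_lit 5, nat_lit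 5]))) (.node (nat_lit 74) (.node (nat_lit 73) (.leaf (nat_lit 72) (nat_lit 4) [nat_lit 2, nat_lit 4, nat_lit 1, nat_lit 5]) (.leaf (nat_lit 73) (nat_lit 4) [nat_lit 5, nat_lit 2, nat_lit 4, nat_lit 1])) (.node (nat_lit 75) (.leaf (nat_lit 74) (nat_lit 0) [nat_lit 5, nat_lit 3, nat_lit 4, nat_lit 0, nat_lit 1, nat_lit 0, nat_lit 2]) (.leaf (nat_lit 75) (nat_lit 1) [nat_lit 0, nat_lit 5, nat_lit 3, nat_lit 4, nat_lit 0, nat_lit 1, nat_lit 0]))))) (.node (nat_lit 83) (.node (nat_lit 79) (.node (nat_lit 77) (.leaf (nat_lit 76) (nat_lit 0) [nat_lit 2, nat_lit 0, nat_lit 5, nat_lit 3, nat_lit 4, nat_lit 0, nat_lit 1]) (.node (nat_lit 78) (.leaf (nat_lit 77) (nat_lit 2) [nat_lit 0, nat_lit 2, nat_lit 0, nat_lit 5, nat_lit 3, nat_lit 4, nat_lit 0]) (.leaf (nat_lit 78) (nat_lit 0) [nat_lit 1, nat_lit 0, nat_lit 2, nat_lit 0, nat_lit 5, nat_lit 3, nat_lit 4]))) (.node (nat_lit 81) (.node (nat_lit 80) (.leaf (nat_lit 79) (nat_lit 5) [nat_lit 0, nat_lit 1, nat_lit 0, nat_lit 2, nat_lit 0, nat_lit 5, nat_lit 3]) (.leaf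 (nat_lit 80) (nat_lit 3) [nat_lit 4, nat_lit 0, nat_lit 1, nat_lit 0, nat_lit 2, nat_lit 0, nat_lit 5])) (.node (nat_lit 82) (.leaf (nat_lit 81) (nat_lit 4) [nat_lit 3, nat_lit 4, nat_lit 0, nat_lit 1, nat_lit 0, nat_lit 2, nat_lit 0]) (.leaf (nat_lit 79) (nat_lit 5) [nat_lit 0, nat_lit 1, nat_lit 0, nat_lit 2, nat_lit 0, nat_lit 5, nat_lit 3])))) (.node (nat_lit 87) (.node (nat_lit 85) (.node (nat_lit 84) (.leaf (nat_lit 80) (nat_lit 3) [nat_lit 4, nat_lit 0, nat_lit 1, nat_lit 0, nat_lit 2, nat_lit 0, nat_lit 5]) (.leaf (nat_lit 81) (nat_lit 4) [nat_lit 3, nat_lit 4, nat_lit 0, nat_lit 1, nat_lit 0, nat_lit 2, nat_lit 0])) (.node (nat_lit 86) (.leaf (nat_lit 74) (nat_lit 0) [nat_lit 5, nat_lit 3, nat_lit 4, nat_lit 0, nat_lit 1, nat_lit 0, nat_lit 2]) (.leaf (nat_lit 75) (nat_lit 1) [nat_lit 0, nat_lit 5, nat_lit 3, nat_lit 4, nat_lit 0, nat_lit 1, nat_lit 0]))) (.node (nat_lit 89) (.node (nat_lit 88) (.leaf (nat_lit 76) (nat_lit 0) [nat_lit 2, nat_lit 0, nat_lit 5, nat_lit 3, nat_lit 4, nat_lit 0, nat_lit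 1]) (.leaf (nat_lit 77) (nat_lit 2) [nat_lit 0, nat_lit 2, nat_lit 0, nat_lit 5, nat_lit 3, nat_lit 4, nat_lit 0])) (.node (nat_lit 90) (.leaf (nat_lit 78) (nat_lit 0) [nat_lit 1, nat_lit 0, nat_lit 2, nat_lit 0, nat_lit 5, nat_lit 3, nat_lit 4]) (.leaf (nat_lit 90) (nat_lit 2) [nat_lit 5, nat_lit 0, nat_lit 1, nat_lit 0, nat_lit 2, nat_lit 0, nat_lit 4, nat_lit 2, nat_lit 0, nat_lit 1, nat_lit 0, nat_lit 2, nat_lit 0])))))) (.node (nat_lit 106) (.node (nat_lit 98) (.node (nat_lit 94) (.node (nat_lit 92) (.leaf (nat_lit 91) (nat_lit 0) [nat_lit 1, nat_lit 5, nat_lit 0, nat_lit 1, nat_lit 0, nat_lit 2, nat_lit 0, nat_lit 4, nat_lit 2, nat_lit 0, nat_lit 1, nat_lit 0, nat_lit 2]) (.node (nat_lit 93) (.leaf (nat_lit 92) (nat_lit 1) [nat_lit 0, nat_lit 1, nat_lit 5, nat_lit 0, nat_lit 1, nat_lit 0, nat_lit 2, nat_lit 0, nat_lit 4, nat_lit 2, nat_lit 0, nat_lit 1, nat_lit 0]) (.leaf (nat_lit 93) (nat_lit 0) [nat_lit 2, nat_lit 0, nat_lit 1, nat_lit 5, nat_lit 0, nat_lit 1, nat_lit 0, nat_lit 2, nat_lit 0, nat_lit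 4, nat_lit 2, nat_lit 0, nat_lit 1]))) (.node (nat_lit 96) (.node (nat_lit 95) (.leaf (nat_lit 94) (nat_lit 2) [nat_lit 0, nat_lit 2, nat_lit 0, nat_lit 1, nat_lit 5, nat_lit 0, nat_lit 1, nat_lit 0, nat_lit 2, nat_lit 0, nat_lit 4, nat_lit 2, nat_lit 0]) (.leaf (nat_lit 95) (nat_lit 0) [nat_lit 1, nat_lit 0, nat_lit 2, nat_lit 0, nat_lit 1, nat_lit 5, nat_lit 0, nat_lit 1, nat_lit 0, nat_lit 2, nat_lit 0, nat_lit 4, nat_lit 2])) (.node (nat_lit 97) (.leaf (nat_lit 96) (nat_lit 1) [nat_lit 0, nat_lit 1, nat_lit 0, nat_lit 2, nat_lit 0, nat_lit 1, nat_lit 5, nat_lit 0, nat_lit 1, nat_lit 0, nat_lit 2, nat_lit 0, nat_lit 4]) (.leaf (nat_lit 97) (nat_lit 5) [nat_lit 2, nat_lit 0, nat_lit 1, nat_lit 0, nat_lit 2, nat_lit 0, nat_lit 1, nat_lit 5, nat_lit 0, nat_lit 1, nat_lit 0, nat_lit 2, nat_lit 0])))) (.node (nat_lit 102) (.node (nat_lit 100) (.node (nat_lit 99) (.leaf (nat_lit 98) (nat_lit 0) [nat_lit 4, nat_lit 2, nat_lit 0, nat_lit 1, nat_lit 0, nat_lit 2, nat_lit 0, nat_lit 1, nat_lit 5, nat_lit 0, nat_lit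 1, nat_lit 0, nat_lit 2]) (.leaf (nat_lit 99) (nat_lit 1) [nat_lit 0, nat_lit 4, nat_lit 2, nat_lit 0, nat_lit 1, nat_lit 0, nat_lit 2, nat_lit 0, nat_lit 1, nat_lit 5, nat_lit 0, nat_lit 1, nat_lit 0])) (.node (nat_lit 101) (.leaf (nat_lit 100) (nat_lit 0) [nat_lit 2, nat_lit 0, nat_lit 4, nat_lit 2, nat_lit 0, nat_lit 1, nat_lit 0, nat_lit 2, nat_lit 0, nat_lit 1, nat_lit 5, nat_lit 0, nat_lit 1]) (.leaf (nat_lit 101) (nat_lit 2) [nat_lit 0, nat_lit 2, nat_lit 0, nat_lit 4, nat_lit 2, nat_lit 0, nat_lit 1, nat_lit 0, nat_lit 2, nat_lit 0, nat_lit 1, nat_lit 5, nat_lit 0]))) (.node (nat_lit 104) (.node (nat_lit 103) (.leaf (nat_lit 102) (nat_lit 0) [nat_lit 1, nat_lit 0, nat_lit 2, nat_lit 0, nat_lit 4, nat_lit 2, nat_lit 0, nat_lit 1, nat_lit 0, nat_lit 2, nat_lit 0, nat_lit 1, nat_lit 5]) (.leaf (nat_lit 103) (nat_lit 4) [nat_lit 0, nat_lit 1, nat_lit 0, nat_lit 2, nat_lit 0, nat_lit 4, nat_lit 2, nat_lit 0, nat_lit 1, nat_lit 0, nat_lit 2, nat_lit 0, nat_lit 1])) (.node (nat_lit 105) (.leaf (nat_lit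 97) (nat_lit 5) [nat_lit 2, nat_lit 0, nat_lit 1, nat_lit 0, nat_lit 2, nat_lit 0, nat_lit 1, nat_lit 5, nat_lit 0, nat_lit 1, nat_lit 0, nat_lit 2, nat_lit 0]) (.leaf (nat_lit 98) (nat_lit 0) [nat_lit 4, nat_lit 2, nat_lit 0, nat_lit 1, nat_lit 0, nat_lit 2, nat_lit 0, nat_lit 1, nat_lit 5, nat_lit 0, nat_lit 1, nat_lit 0, nat_lit 2]))))) (.node (nat_lit 114) (.node (nat_lit 110) (.node (nat_lit 108) (.node (nat_lit 107) (.leaf (nat_lit 99) (nat_lit 1) [nat_lit 0, nat_lit 4, nat_lit 2, nat_lit 0, nat_lit 1, nat_lit 0, nat_lit 2, nat_lit 0, nat_lit 1, nat_lit 5, nat_lit 0, nat_lit 1, nat_lit 0]) (.leaf (nat_lit 100) (nat_lit 0) [nat_lit 2, nat_lit 0, nat_lit 4, nat_lit 2, nat_lit 0, nat_lit 1, nat_lit 0, nat_lit 2, nat_lit 0, nat_lit 1, nat_lit 5, nat_lit 0, nat_lit 1])) (.node (nat_lit 109) (.leaf (nat_lit 101) (nat_lit 2) [nat_lit 0, nat_lit 2, nat_lit 0, nat_lit 4, nat_lit 2, nat_lit 0, nat_lit 1, nat_lit 0, nat_lit 2, nat_lit 0, nat_lit 1, nat_lit 5, nat_lit 0]) (.leaf (nat_lit 102) (nat_lit 0) [nat_lit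 1, nat_lit 0, nat_lit 2, nat_lit 0, nat_lit 4, nat_lit 2, nat_lit 0, nat_lit 1, nat_lit 0, nat_lit 2, nat_lit 0, nat_lit 1, nat_lit 5]))) (.node (nat_lit 112) (.node (nat_lit 111) (.leaf (nat_lit 103) (nat_lit 4) [nat_lit 0, nat_lit 1, nat_lit 0, nat_lit 2, nat_lit 0, nat_lit 4, nat_lit 2, nat_lit 0, nat_lit 1, nat_lit 0, nat_lit 2, nat_lit 0, nat_lit 1]) (.leaf (nat_lit 90) (nat_lit 2) [nat_lit 5, nat_lit 0, nat_lit 1, nat_lit 0, nat_lit 2, nat_lit 0, nat_lit 4, nat_lit 2, nat_lit 0, nat_lit 1, nat_lit 0, nat_lit 2, nat_lit 0])) (.node (nat_lit 113) (.leaf (nat_lit 91) (nat_lit 0) [nat_lit 1, nat_lit 5, nat_lit 0, nat_lit 1, nat_lit 0, nat_lit 2, nat_lit 0, nat_lit 4, nat_lit 2, nat_lit 0, nat_lit 1, nat_lit 0, nat_lit 2]) (.leaf (nat_lit 92) (nat_lit 1) [nat_lit 0, nat_lit 1, nat_lit 5, nat_lit 0, nat_lit 1, nat_lit 0, nat_lit 2, nat_lit 0, nat_lit 4, nat_lit 2, nat_lit 0, nat_lit 1, nat_lit 0])))) (.node (nat_lit 118) (.node (nat_lit 116) (.node (nat_lit 115) (.leaf (nat_lit 93) (nat_lit 0) [nat_lit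 2, nat_lit 0, nat_lit 1, nat_lit 5, nat_lit 0, nat_lit 1, nat_lit 0, nat_lit 2, nat_lit 0, nat_lit 4, nat_lit 2, nat_lit 0, nat_lit 1]) (.leaf (nat_lit 94) (nat_lit 2) [nat_lit 0, nat_lit 2, nat_lit 0, nat_lit 1, nat_lit 5, nat_lit 0, nat_lit 1, nat_lit 0, nat_lit 2, nat_lit 0, nat_lit 4, nat_lit 2, nat_lit 0])) (.node (nat_lit 117) (.leaf (nat_lit 95) (nat_lit 0) [nat_lit 1, nat_lit 0, nat_lit 2, nat_lit 0, nat_lit 1, nat_lit 5, nat_lit 0, nat_lit 1, nat_lit 0, nat_lit 2, nat_lit 0, nat_lit 4, nat_lit 2]) (.leaf (nat_lit 96) (nat_lit 1) [nat_lit 0, nat_lit 1, nat_lit 0, nat_lit 2, nat_lit 0, nat_lit 1, nat_lit 5, nat_lit 0, nat_lit 1, nat_lit 0, nat_lit 2, nat_lit 0, nat_lit 4]))) (.node (nat_lit 120) (.node (nat_lit 119) (.leaf (nat_lit 118) (nat_lit 3) [nat_lit 5, nat_lit 2, nat_lit 0, nat_lit 1, nat_lit 0, nat_lit 2, nat_lit 0, nat_lit 1, nat_lit 4, nat_lit 0, nat_lit 1, nat_lit 0, nat_lit 2, nat_lit 0]) (.leaf (nat_lit 119) (nat_lit 0) [nat_lit 3, nat_lit 5, nat_lit 2, nat_lit 0, nat_lit 1, nat_lit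 0, nat_lit 2, nat_lit 0, nat_lit 1, nat_lit 4, nat_lit 0, nat_lit 1, nat_lit 0, nat_lit 2])) (.node (nat_lit 121) (.leaf (nat_lit 120) (nat_lit 1) [nat_lit 0, nat_lit 3, nat_lit 5, nat_lit 2, nat_lit 0, nat_lit 1, nat_lit 0, nat_lit 2, nat_lit 0, nat_lit 1, nat_lit 4, nat_lit 0, nat_lit 1, nat_lit 0]) (.leaf (nat_lit 121) (nat_lit 0) [nat_lit 2, nat_lit 0, nat_lit 3, nat_lit 5, nat_lit 2, nat_lit 0, nat_lit 1, nat_lit 0, nat_lit 2, nat_lit 0, nat_lit 1, nat_lit 4, nat_lit 0, nat_lit 1])))))))) (.node (nat_lit 183) (.node (nat_lit 152) (.node (nat_lit 137) (.node (nat_lit 129) (.node (nat_lit 125) (.node (nat_lit 123) (.leaf (nat_lit 122) (nat_lit 2) [nat_lit 0, nat_lit 2, nat_lit 0, nat_lit 3, nat_lit 5, nat_lit 2, nat_lit 0, nat_lit 1, nat_lit 0, nat_lit 2, nat_lit 0, nat_lit 1, nat_lit 4, nat_lit 0]) (.node (nat_lit 124) (.leaf (nat_lit 123) (nat_lit 0) [nat_lit 1, nat_lit 0, nat_lit 2, nat_lit 0, nat_lit 3, nat_lit 5, nat_lit 2, nat_lit 0, nat_lit 1, nat_lit 0, nat_lit 2, nat_lit 0, nat_lit 1, nat_lit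 4]) (.leaf (nat_lit 124) (nat_lit 5) [nat_lit 0, nat_lit 1, nat_lit 0, nat_lit 2, nat_lit 0, nat_lit 3, nat_lit 5, nat_lit 2, nat_lit 0, nat_lit 1, nat_lit 0, nat_lit 2, nat_lit 0, nat_lit 1]))) (.node (nat_lit 127) (.node (nat_lit 126) (.leaf (nat_lit 125) (nat_lit 2) [nat_lit 4, nat_lit 0, nat_lit 1, nat_lit 0, nat_lit 2, nat_lit 0, nat_lit 3, nat_lit 5, nat_lit 2, nat_lit 0, nat_lit 1, nat_lit 0, nat_lit 2, nat_lit 0]) (.leaf (nat_lit 126) (nat_lit 0) [nat_lit 1, nat_lit 4, nat_lit 0, nat_lit 1, nat_lit 0, nat_lit 2, nat_lit 0, nat_lit 3, nat_lit 5, nat_lit 2, nat_lit 0, nat_lit 1, nat_lit 0, nat_lit 2])) (.node (nat_lit 128) (.leaf (nat_lit 127) (nat_lit 1) [nat_lit 0, nat_lit 1, nat_lit 4, nat_lit 0, nat_lit 1, nat_lit 0, nat_lit 2, nat_lit 0, nat_lit 3, nat_lit 5, nat_lit 2, nat_lit 0, nat_lit 1, nat_lit 0]) (.leaf (nat_lit 128) (nat_lit 0) [nat_lit 2, nat_lit 0, nat_lit 1, nat_lit 4, nat_lit 0, nat_lit 1, nat_lit 0, nat_lit 2, nat_lit 0, nat_lit 3, nat_lit 5, nat_lit 2, nat_lit 0, nat_lit 1]))))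 (.node (nat_lit 133) (.node (nat_lit 131) (.node (nat_lit 130) (.leaf (nat_lit 129) (nat_lit 2) [nat_lit 0, nat_lit 2, nat_lit 0, nat_lit 1, nat_lit 4, nat_lit 0, nat_lit 1, nat_lit 0, nat_lit 2, nat_lit 0, nat_lit 3, nat_lit 5, nat_lit 2, nat_lit 0]) (.leaf (nat_lit 130) (nat_lit 0) [nat_lit 1, nat_lit 0, nat_lit 2, nat_lit 0, nat_lit 1, nat_lit 4, nat_lit 0, nat_lit 1, nat_lit 0, nat_lit 2, nat_lit 0, nat_lit 3, nat_lit 5, nat_lit 2])) (.node (nat_lit 132) (.leaf (nat_lit 131) (nat_lit 1) [nat_lit 0, nat_lit 1, nat_lit 0, nat_lit 2, nat_lit 0, nat_lit 1, nat_lit 4, nat_lit 0, nat_lit 1, nat_lit 0, nat_lit 2, nat_lit 0, nat_lit 3, nat_lit 5]) (.leaf (nat_lit 132) (nat_lit 4) [nat_lit 2, nat_lit 0, nat_lit 1, nat_lit 0, nat_lit 2, nat_lit 0, nat_lit 1, nat_lit 4, nat_lit 0, nat_lit 1, nat_lit 0, nat_lit 2, nat_lit 0, nat_lit 3]))) (.node (nat_lit 135) (.node (nat_lit 134) (.leaf (nat_lit 133) (nat_lit 5) [nat_lit 3, nat_lit 0, nat_lit 1, nat_lit 0, nat_lit 2, nat_lit 0, nat_lit 5, nat_lit 2, nat_lit 0,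 nat_lit 1, nat_lit 0, nat_lit 2, nat_lit 0, nat_lit 1]) (.leaf (nat_lit 134) (nat_lit 2) [nat_lit 4, nat_lit 3, nat_lit 0, nat_lit 1, nat_lit 0, nat_lit 2, nat_lit 0, nat_lit 5, nat_lit 2, nat_lit 0, nat_lit 1, nat_lit 0, nat_lit 2, nat_lit 0])) (.node (nat_lit 136) (.leaf (nat_lit 135) (nat_lit 0) [nat_lit 1, nat_lit 4, nat_lit 3, nat_lit 0, nat_lit 1, nat_lit 0, nat_lit 2, nat_lit 0, nat_lit 5, nat_lit 2, nat_lit 0, nat_lit 1, nat_lit 0, nat_lit 2]) (.leaf (nat_lit 136) (nat_lit 1) [nat_lit 0, nat_lit 1, nat_lit 4, nat_lit 3, nat_lit 0, nat_lit 1, nat_lit 0, nat_lit 2, nat_lit 0, nat_lit 5, nat_lit 2, nat_lit 0, nat_lit 1, nat_lit 0]))))) (.node (nat_lit 144) (.node (nat_lit 140) (.node (nat_lit 138) (.leaf (nat_lit 137) (nat_lit 0) [nat_lit 2, nat_lit 0, nat_lit 1, nat_lit 4, nat_lit 3, nat_lit 0, nat_lit 1, nat_lit 0, nat_lit 2, nat_lit 0, nat_lit 5, nat_lit 2, nat_lit 0, nat_lit 1]) (.node (nat_lit 139) (.leaf (nat_lit 138) (nat_lit 2) [nat_lit 0, nat_lit 2, nat_lit 0, nat_lit 1, nat_lit 4, nat_lit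 3, nat_lit 0, nat_lit 1, nat_lit 0, nat_lit 2, nat_lit 0, nat_lit 5, nat_lit 2, nat_lit 0]) (.leaf (nat_lit 139) (nat_lit 0) [nat_lit 1, nat_lit 0, nat_lit 2, nat_lit 0, nat_lit 1, nat_lit 4, nat_lit 3, nat_lit 0, nat_lit 1, nat_lit 0, nat_lit 2, nat_lit 0, nat_lit 5, nat_lit 2]))) (.node (nat_lit 142) (.node (nat_lit 141) (.leaf (nat_lit 140) (nat_lit 1) [nat_lit 0, nat_lit 1, nat_lit 0, nat_lit 2, nat_lit 0, nat_lit 1, nat_lit 4, nat_lit 3, nat_lit 0, nat_lit 1, nat_lit 0, nat_lit 2, nat_lit 0, nat_lit 5]) (.leaf (nat_lit 141) (nat_lit 4) [nat_lit 2, nat_lit 0, nat_lit 1, nat_lit 0, nat_lit 2, nat_lit 0, nat_lit 1, nat_lit 4, nat_lit 3, nat_lit 0, nat_lit 1, nat_lit 0, nat_lit 2, nat_lit 0])) (.node (nat_lit 143) (.leaf (nat_lit 142) (nat_lit 0) [nat_lit 5, nat_lit 2, nat_lit 0, nat_lit 1, nat_lit 0, nat_lit 2, nat_lit 0, nat_lit 1, nat_lit 4, nat_lit 3, nat_lit 0, nat_lit 1, nat_lit 0, nat_lit 2]) (.leaf (nat_lit 143) (nat_lit 1) [nat_lit 0, nat_lit 5, nat_lit 2, nat_lit 0, nat_lit 1, nat_lit 0, nat_lit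 2, nat_lit 0, nat_lit 1, nat_lit 4, nat_lit 3, nat_lit 0, nat_lit 1, nat_lit 0])))) (.node (nat_lit 148) (.node (nat_lit 146) (.node (nat_lit 145) (.leaf (nat_lit 144) (nat_lit 0) [nat_lit 2, nat_lit 0, nat_lit 5, nat_lit 2, nat_lit 0, nat_lit 1, nat_lit 0, nat_lit 2, nat_lit 0, nat_lit 1, nat_lit 4, nat_lit 3, nat_lit 0, nat_lit 1]) (.leaf (nat_lit 145) (nat_lit 2) [nat_lit 0, nat_lit 2, nat_lit 0, nat_lit 5, nat_lit 2, nat_lit 0, nat_lit 1, nat_lit 0, nat_lit 2, nat_lit 0, nat_lit 1, nat_lit 4, nat_lit 3, nat_lit 0])) (.node (nat_lit 147) (.leaf (nat_lit 146) (nat_lit 0) [nat_lit 1, nat_lit 0, nat_lit 2, nat_lit 0, nat_lit 5, nat_lit 2, nat_lit 0, nat_lit 1, nat_lit 0, nat_lit 2, nat_lit 0, nat_lit 1, nat_lit 4, nat_lit 3]) (.leaf (nat_lit 147) (nat_lit 3) [nat_lit 0, nat_lit 1, nat_lit 0, nat_lit 2, nat_lit 0, nat_lit 5, nat_lit 2, nat_lit 0, nat_lit 1, nat_lit 0, nat_lit 2, nat_lit 0, nat_lit 1, nat_lit 4]))) (.node (nat_lit 150) (.node (nat_lit 149) (.leaf (nat_lit 148) (nat_lit 0) [nat_lit 0, nat_lit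 1, nat_lit 0, nat_lit 2, nat_lit 0, nat_lit 0, nat_lit 1, nat_lit 0, nat_lit 2]) (.leaf (nat_lit 149) (nat_lit 1) [nat_lit 0, nat_lit 0, nat_lit 1, nat_lit 0, nat_lit 2, nat_lit 0, nat_lit 0, nat_lit 1, nat_lit 0])) (.node (nat_lit 151) (.leaf (nat_lit 150) (nat_lit 0) [nat_lit 2, nat_lit 0, nat_lit 0, nat_lit 1, nat_lit 0, nat_lit 2, nat_lit 0, nat_lit 0, nat_lit 1]) (.leaf (nat_lit 151) (nat_lit 2) [nat_lit 0, nat_lit 2, nat_lit 0, nat_lit 0, nat_lit 1, nat_lit 0, nat_lit 2, nat_lit 0, nat_lit 0])))))) (.node (nat_lit 167) (.node (nat_lit 159) (.node (nat_lit 155) (.node (nat_lit 153) (.leaf (nat_lit 152) (nat_lit 0) [nat_lit 1, nat_lit 0, nat_lit 2, nat_lit 0, nat_lit 0, nat_lit 1, nat_lit 0, nat_lit 2, nat_lit 0]) (.node (nat_lit 154) (.leaf (nat_lit 148) (nat_lit 0) [nat_lit 0, nat_lit 1, nat_lit 0, nat_lit 2, nat_lit 0, nat_lit 0, nat_lit 1, nat_lit 0, nat_lit 2]) (.leaf (nat_lit 149) (nat_lit 1) [nat_lit 0, nat_lit 0, nat_lit 1, nat_lit 0, nat_lit 2, nat_lit 0, nat_lit 0, nat_lit 1, nat_lit 0])))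 (.node (nat_lit 157) (.node (nat_lit 156) (.leaf (nat_lit 150) (nat_lit 0) [nat_lit 2, nat_lit 0, nat_lit 0, nat_lit 1, nat_lit 0, nat_lit 2, nat_lit 0, nat_lit 0, nat_lit 1]) (.leaf (nat_lit 151) (nat_lit 2) [nat_lit 0, nat_lit 2, nat_lit 0, nat_lit 0, nat_lit 1, nat_lit 0, nat_lit 2, nat_lit 0, nat_lit 0])) (.node (nat_lit 158) (.leaf (nat_lit 152) (nat_lit 0) [nat_lit 1, nat_lit 0, nat_lit 2, nat_lit 0, nat_lit 0, nat_lit 1, nat_lit 0, nat_lit 2, nat_lit 0]) (.leaf (nat_lit 148) (nat_lit 0) [nat_lit 0, nat_lit 1, nat_lit 0, nat_lit 2, nat_lit 0, nat_lit 0, nat_lit 1, nat_lit 0, nat_lit 2])))) (.node (nat_lit 163) (.node (nat_lit 161) (.node (nat_lit 160) (.leaf (nat_lit 149) (nat_lit 1) [nat_lit 0, nat_lit 0, nat_lit 1, nat_lit 0, nat_lit 2, nat_lit 0, nat_lit 0, nat_lit 1, nat_lit 0]) (.leaf (nat_lit 150) (nat_lit 0) [nat_lit 2, nat_lit 0, nat_lit 0, nat_lit 1, nat_lit 0, nat_lit 2, nat_lit 0, nat_lit 0, nat_lit 1])) (.node (nat_lit 162) (.leaf (nat_lit 151) (nat_lit 2) [nat_lit 0, nat_lit 2, nat_lit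 0, nat_lit 0, nat_lit 1, nat_lit 0, nat_lit 2, nat_lit 0, nat_lit 0]) (.leaf (nat_lit 152) (nat_lit 0) [nat_lit 1, nat_lit 0, nat_lit 2, nat_lit 0, nat_lit 0, nat_lit 1, nat_lit 0, nat_lit 2, nat_lit 0]))) (.node (nat_lit 165) (.node (nat_lit 164) (.leaf (nat_lit 148) (nat_lit 0) [nat_lit 0, nat_lit 1, nat_lit 0, nat_lit 2, nat_lit 0, nat_lit 0, nat_lit 1, nat_lit 0, nat_lit 2]) (.leaf (nat_lit 149) (nat_lit 1) [nat_lit 0, nat_lit 0, nat_lit 1, nat_lit 0, nat_lit 2, nat_lit 0, nat_lit 0, nat_lit 1, nat_lit 0])) (.node (nat_lit 166) (.leaf (nat_lit 150) (nat_lit 0) [nat_lit 2, nat_lit 0, nat_lit 0, nat_lit 1, nat_lit 0, nat_lit 2, nat_lit 0, nat_lit 0, nat_lit 1]) (.leaf (nat_lit 151) (nat_lit 2) [nat_lit 0, nat_lit 2, nat_lit 0, nat_lit 0, nat_lit 1, nat_lit 0, nat_lit 2, nat_lit 0, nat_lit 0]))))) (.node (nat_lit 175) (.node (nat_lit 171) (.node (nat_lit 169) (.node (nat_lit 168) (.leaf (nat_lit 152) (nat_lit 0) [nat_lit 1, nat_lit 0, nat_lit 2, nat_lit 0, nat_lit 0, nat_lit 1, nat_lit 0, nat_lit 2, nat_lit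 0]) (.leaf (nat_lit 168) (nat_lit 1) [nat_lit 0, nat_lit 1, nat_lit 0, nat_lit 2, nat_lit 0, nat_lit 2, nat_lit 0, nat_lit 1, nat_lit 0, nat_lit 2, nat_lit 0, nat_lit 2, nat_lit 0, nat_lit 1, nat_lit 0, nat_lit 2, nat_lit 0])) (.node (nat_lit 170) (.leaf (nat_lit 169) (nat_lit 0) [nat_lit 2, nat_lit 0, nat_lit 1, nat_lit 0, nat_lit 2, nat_lit 0, nat_lit 2, nat_lit 0, nat_lit 1, nat_lit 0, nat_lit 2, nat_lit 0, nat_lit 2, nat_lit 0, nat_lit 1, nat_lit 0, nat_lit 2]) (.leaf (nat_lit 170) (nat_lit 1) [nat_lit 0, nat_lit 2, nat_lit 0, nat_lit 1, nat_lit 0, nat_lit 2, nat_lit 0, nat_lit 2, nat_lit 0, nat_lit 1, nat_lit 0, nat_lit 2, nat_lit 0, nat_lit 2, nat_lit 0, nat_lit 1, nat_lit 0]))) (.node (nat_lit 173) (.node (nat_lit 172) (.leaf (nat_lit 171) (nat_lit 0) [nat_lit 2, nat_lit 0, nat_lit 2, nat_lit 0, nat_lit 1, nat_lit 0, nat_lit 2, nat_lit 0, nat_lit 2, nat_lit 0, nat_lit 1, nat_lit 0, nat_lit 2, nat_lit 0, nat_lit 2, nat_lit 0, nat_lit 1]) (.leaf (nat_lit 172) (nat_lit 2) [nat_lit 0, nat_lit 2, nat_lit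 0, nat_lit 2, nat_lit 0, nat_lit 1, nat_lit 0, nat_lit 2, nat_lit 0, nat_lit 2, nat_lit 0, nat_lit 1, nat_lit 0, nat_lit 2, nat_lit 0, nat_lit 2, nat_lit 0])) (.node (nat_lit 174) (.leaf (nat_lit 173) (nat_lit 0) [nat_lit 1, nat_lit 0, nat_lit 2, nat_lit 0, nat_lit 2, nat_lit 0, nat_lit 1, nat_lit 0, nat_lit 2, nat_lit 0, nat_lit 2, nat_lit 0, nat_lit 1, nat_lit 0, nat_lit 2, nat_lit 0, nat_lit 2]) (.leaf (nat_lit 168) (nat_lit 1) [nat_lit 0, nat_lit 1, nat_lit 0, nat_lit 2, nat_lit 0, nat_lit 2, nat_lit 0, nat_lit 1, nat_lit 0, nat_lit 2, nat_lit 0, nat_lit 2, nat_lit 0, nat_lit 1, nat_lit 0, nat_lit 2, nat_lit 0])))) (.node (nat_lit 179) (.node (nat_lit 177) (.node (nat_lit 176) (.leaf (nat_lit 169) (nat_lit 0) [nat_lit 2, nat_lit 0, nat_lit 1, nat_lit 0, nat_lit 2, nat_lit 0, nat_lit 2, nat_lit 0, nat_lit 1, nat_lit 0, nat_lit 2, nat_lit 0, nat_lit 2, nat_lit 0, nat_lit 1, nat_lit 0, nat_lit 2]) (.leaf (nat_lit 170) (nat_lit 1) [nat_lit 0, nat_lit 2, nat_lit 0, nat_lit 1, nat_lit 0, nat_lit 2, nat_lit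 0, nat_lit 2, nat_lit 0, nat_lit 1, nat_lit 0, nat_lit 2, nat_lit 0, nat_lit 2, nat_lit 0, nat_lit 1, nat_lit 0])) (.node (nat_lit 178) (.leaf (nat_lit 171) (nat_lit 0) [nat_lit 2, nat_lit 0, nat_lit 2, nat_lit 0, nat_lit 1, nat_lit 0, nat_lit 2, nat_lit 0, nat_lit 2, nat_lit 0, nat_lit 1, nat_lit 0, nat_lit 2, nat_lit 0, nat_lit 2, nat_lit 0, nat_lit 1]) (.leaf (nat_lit 172) (nat_lit 2) [nat_lit 0, nat_lit 2, nat_lit 0, nat_lit 2, nat_lit 0, nat_lit 1, nat_lit 0, nat_lit 2, nat_lit 0, nat_lit 2, nat_lit 0, nat_lit 1, nat_lit 0, nat_lit 2, nat_lit 0, nat_lit 2, nat_lit 0]))) (.node (nat_lit 181) (.node (nat_lit 180) (.leaf (nat_lit 173) (nat_lit 0) [nat_lit 1, nat_lit 0, nat_lit 2, nat_lit 0, nat_lit 2, nat_lit 0, nat_lit 1, nat_lit 0, nat_lit 2, nat_lit 0, nat_lit 2, nat_lit 0, nat_lit 1, nat_lit 0, nat_lit 2, nat_lit 0, nat_lit 2]) (.leaf (nat_lit 168) (nat_lit 1) [nat_lit 0, nat_lit 1, nat_lit 0, nat_lit 2, nat_lit 0, nat_lit 2, nat_lit 0, nat_lit 1, nat_lit 0, nat_lit 2, nat_lit 0, nat_lit 2, nat_lit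 0, nat_lit 1, nat_lit 0, nat_lit 2, nat_lit 0])) (.node (nat_lit 182) (.leaf (nat_lit 169) (nat_lit 0) [nat_lit 2, nat_lit 0, nat_lit 1, nat_lit 0, nat_lit 2, nat_lit 0, nat_lit 2, nat_lit 0, nat_lit 1, nat_lit 0, nat_lit 2, nat_lit 0, nat_lit 2, nat_lit 0, nat_lit 1, nat_lit 0, nat_lit 2]) (.leaf (nat_lit 170) (nat_lit 1) [nat_lit 0, nat_lit 2, nat_lit 0, nat_lit 1, nat_lit 0, nat_lit 2, nat_lit 0, nat_lit 2, nat_lit 0, nat_lit 1, nat_lit 0, nat_lit 2, nat_lit 0, nat_lit 2, nat_lit 0, nat_lit 1, nat_lit 0]))))))) (.node (nat_lit 213) (.node (nat_lit 198) (.node (nat_lit 190) (.node (nat_lit 186) (.node (nat_lit 184) (.leaf (nat_lit 171) (nat_lit 0) [nat_lit 2, nat_lit 0, nat_lit 2, nat_lit 0, nat_lit 1, nat_lit 0, nat_lit 2, nat_lit 0, nat_lit 2, nat_lit 0, nat_lit 1, nat_lit 0, nat_lit 2, nat_lit 0, nat_lit 2, nat_lit 0, nat_lit 1]) (.node (nat_lit 185) (.leaf (nat_lit 172) (nat_lit 2) [nat_lit 0, nat_lit 2, nat_lit 0, nat_lit 2, nat_lit 0, nat_lit 1, nat_lit 0, nat_lit 2, nat_lit 0, nat_lit 2, nat_lit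 0, nat_lit 1, nat_lit 0, nat_lit 2, nat_lit 0, nat_lit 2, nat_lit 0]) (.leaf (nat_lit 173) (nat_lit 0) [nat_lit 1, nat_lit 0, nat_lit 2, nat_lit 0, nat_lit 2, nat_lit 0, nat_lit 1, nat_lit 0, nat_lit 2, nat_lit 0, nat_lit 2, nat_lit 0, nat_lit 1, nat_lit 0, nat_lit 2, nat_lit 0, nat_lit 2]))) (.node (nat_lit 188) (.node (nat_lit 187) (.leaf (nat_lit 186) (nat_lit 0) [nat_lit 1, nat_lit 0, nat_lit 1, nat_lit 0, nat_lit 2, nat_lit 0, nat_lit 1, nat_lit 0, nat_lit 1, nat_lit 0, nat_lit 2, nat_lit 0, nat_lit 1, nat_lit 0, nat_lit 1, nat_lit 0, nat_lit 2]) (.leaf (nat_lit 187) (nat_lit 1) [nat_lit 0, nat_lit 1, nat_lit 0, nat_lit 1, nat_lit 0, nat_lit 2, nat_lit 0, nat_lit 1, nat_lit 0, nat_lit 1, nat_lit 0, nat_lit 2, nat_lit 0, nat_lit 1, nat_lit 0, nat_lit 1, nat_lit 0])) (.node (nat_lit 189) (.leaf (nat_lit 188) (nat_lit 0) [nat_lit 2, nat_lit 0, nat_lit 1, nat_lit 0, nat_lit 1, nat_lit 0, nat_lit 2, nat_lit 0, nat_lit 1, nat_lit 0, nat_lit 1, nat_lit 0, nat_lit 2, nat_lit 0, nat_lit 1, nat_lit 0, nat_lit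 1]) (.leaf (nat_lit 189) (nat_lit 2) [nat_lit 0, nat_lit 2, nat_lit 0, nat_lit 1, nat_lit 0, nat_lit 1, nat_lit 0, nat_lit 2, nat_lit 0, nat_lit 1, nat_lit 0, nat_lit 1, nat_lit 0, nat_lit 2, nat_lit 0, nat_lit 1, nat_lit 0])))) (.node (nat_lit 194) (.node (nat_lit 192) (.node (nat_lit 191) (.leaf (nat_lit 190) (nat_lit 0) [nat_lit 1, nat_lit 0, nat_lit 2, nat_lit 0, nat_lit 1, nat_lit 0, nat_lit 1, nat_lit 0, nat_lit 2, nat_lit 0, nat_lit 1, nat_lit 0, nat_lit 1, nat_lit 0, nat_lit 2, nat_lit 0, nat_lit 1]) (.leaf (nat_lit 191) (nat_lit 2) [nat_lit 0, nat_lit 1, nat_lit 0, nat_lit 2, nat_lit 0, nat_lit 1, nat_lit 0, nat_lit 1, nat_lit 0, nat_lit 2, nat_lit 0, nat_lit 1, nat_lit 0, nat_lit 1, nat_lit 0, nat_lit 2, nat_lit 0])) (.node (nat_lit 193) (.leaf (nat_lit 186) (nat_lit 0) [nat_lit 1, nat_lit 0, nat_lit 1, nat_lit 0, nat_lit 2, nat_lit 0, nat_lit 1, nat_lit 0, nat_lit 1, nat_lit 0, nat_lit 2, nat_lit 0, nat_lit 1, nat_lit 0, nat_lit 1, nat_lit 0, nat_lit 2]) (.leaf (nat_lit 187) (nat_lit 1) [nat_lit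 0, nat_lit 1, nat_lit 0, nat_lit 1, nat_lit 0, nat_lit 2, nat_lit 0, nat_lit 1, nat_lit 0, nat_lit 1, nat_lit 0, nat_lit 2, nat_lit 0, nat_lit 1, nat_lit 0, nat_lit 1, nat_lit 0]))) (.node (nat_lit 196) (.node (nat_lit 195) (.leaf (nat_lit 188) (nat_lit 0) [nat_lit 2, nat_lit 0, nat_lit 1, nat_lit 0, nat_lit 1, nat_lit 0, nat_lit 2, nat_lit 0, nat_lit 1, nat_lit 0, nat_lit 1, nat_lit 0, nat_lit 2, nat_lit 0, nat_lit 1, nat_lit 0, nat_lit 1]) (.leaf (nat_lit 189) (nat_lit 2) [nat_lit 0, nat_lit 2, nat_lit 0, nat_lit 1, nat_lit 0, nat_lit 1, nat_lit 0, nat_lit 2, nat_lit 0, nat_lit 1, nat_lit 0, nat_lit 1, nat_lit 0, nat_lit 2, nat_lit 0, nat_lit 1, nat_lit 0])) (.node (nat_lit 197) (.leaf (nat_lit 190) (nat_lit 0) [nat_lit 1, nat_lit 0, nat_lit 2, nat_lit 0, nat_lit 1, nat_lit 0, nat_lit 1, nat_lit 0, nat_lit 2, nat_lit 0, nat_lit 1, nat_lit 0, nat_lit 1, nat_lit 0, nat_lit 2, nat_lit 0, nat_lit 1]) (.leaf (nat_lit 191) (nat_lit 2) [nat_lit 0, nat_lit 1, nat_lit 0, nat_lit 2, nat_lit 0, nat_lit 1, nat_lit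 0, nat_lit 1, nat_lit 0, nat_lit 2, nat_lit 0, nat_lit 1, nat_lit 0, nat_lit 1, nat_lit 0, nat_lit 2, nat_lit 0]))))) (.node (nat_lit 205) (.node (nat_lit 201) (.node (nat_lit 199) (.leaf (nat_lit 186) (nat_lit 0) [nat_lit 1, nat_lit 0, nat_lit 1, nat_lit 0, nat_lit 2, nat_lit 0, nat_lit 1, nat_lit 0, nat_lit 1, nat_lit 0, nat_lit 2, nat_lit 0, nat_lit 1, nat_lit 0, nat_lit 1, nat_lit 0, nat_lit 2]) (.node (nat_lit 200) (.leaf (nat_lit 187) (nat_lit 1) [nat_lit 0, nat_lit 1, nat_lit 0, nat_lit 1, nat_lit 0, nat_lit 2, nat_lit 0, nat_lit 1, nat_lit 0, nat_lit 1, nat_lit 0, nat_lit 2, nat_lit 0, nat_lit 1, nat_lit 0, nat_lit 1, nat_lit 0]) (.leaf (nat_lit 188) (nat_lit 0) [nat_lit 2, nat_lit 0, nat_lit 1, nat_lit 0, nat_lit 1, nat_lit 0, nat_lit 2, nat_lit 0, nat_lit 1, nat_lit 0, nat_lit 1, nat_lit 0, nat_lit 2, nat_lit 0, nat_lit 1, nat_lit 0, nat_lit 1]))) (.node (nat_lit 203) (.node (nat_lit 202) (.leaf (nat_lit 189) (nat_lit 2) [nat_lit 0, nat_lit 2, nat_lit 0, nat_lit 1, nat_lit 0, nat_lit 1, nat_lit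 0, nat_lit 2, nat_lit 0, nat_lit 1, nat_lit 0, nat_lit 1, nat_lit 0, nat_lit 2, nat_lit 0, nat_lit 1, nat_lit 0]) (.leaf (nat_lit 190) (nat_lit 0) [nat_lit 1, nat_lit 0, nat_lit 2, nat_lit 0, nat_lit 1, nat_lit 0, nat_lit 1, nat_lit 0, nat_lit 2, nat_lit 0, nat_lit 1, nat_lit 0, nat_lit 1, nat_lit 0, nat_lit 2, nat_lit 0, nat_lit 1])) (.node (nat_lit 204) (.leaf (nat_lit 191) (nat_lit 2) [nat_lit 0, nat_lit 1, nat_lit 0, nat_lit 2, nat_lit 0, nat_lit 1, nat_lit 0, nat_lit 1, nat_lit 0, nat_lit 2, nat_lit 0, nat_lit 1, nat_lit 0, nat_lit 1, nat_lit 0, nat_lit 2, nat_lit 0]) (.leaf (nat_lit 204) (nat_lit 5) [nat_lit 1, nat_lit 0, nat_lit 2, nat_lit 0, nat_lit 1, nat_lit 0, nat_lit 5, nat_lit 0, nat_lit 2, nat_lit 4, nat_lit 0, nat_lit 2, nat_lit 0, nat_lit 1, nat_lit 0, nat_lit 2, nat_lit 5, nat_lit 1, nat_lit 0])))) (.node (nat_lit 209) (.node (nat_lit 207) (.node (nat_lit 206) (.leaf (nat_lit 205) (nat_lit 0) [nat_lit 4, nat_lit 1, nat_lit 0, nat_lit 2, nat_lit 0, nat_lit 1, nat_lit 0, nat_lit 5, nat_lit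 0, nat_lit 2, nat_lit 4, nat_lit 0, nat_lit 2, nat_lit 0, nat_lit 1, nat_lit 0, nat_lit 2, nat_lit 5, nat_lit 1]) (.leaf (nat_lit 206) (nat_lit 2) [nat_lit 0, nat_lit 4, nat_lit 1, nat_lit 0, nat_lit 2, nat_lit 0, nat_lit 1, nat_lit 0, nat_lit 5, nat_lit 0, nat_lit 2, nat_lit 4, nat_lit 0, nat_lit 2, nat_lit 0, nat_lit 1, nat_lit 0, nat_lit 2, nat_lit 5])) (.node (nat_lit 208) (.leaf (nat_lit 207) (nat_lit 4) [nat_lit 1, nat_lit 0, nat_lit 4, nat_lit 1, nat_lit 0, nat_lit 2, nat_lit 0, nat_lit 1, nat_lit 0, nat_lit 5, nat_lit 0, nat_lit 2, nat_lit 4, nat_lit 0, nat_lit 2, nat_lit 0, nat_lit 1, nat_lit 0, nat_lit 2]) (.leaf (nat_lit 208) (nat_lit 1) [nat_lit 5, nat_lit 1, nat_lit 0, nat_lit 4, nat_lit 1, nat_lit 0, nat_lit 2, nat_lit 0, nat_lit 1, nat_lit 0, nat_lit 5, nat_lit 0, nat_lit 2, nat_lit 4, nat_lit 0, nat_lit 2, nat_lit 0, nat_lit 1, nat_lit 0]))) (.node (nat_lit 211) (.node (nat_lit 210) (.leaf (nat_lit 209) (nat_lit 0) [nat_lit 2, nat_lit 5, nat_lit 1, nat_lit 0, nat_lit 4, nat_lit 1, nat_lit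 0, nat_lit 2, nat_lit 0, nat_lit 1, nat_lit 0, nat_lit 5, nat_lit 0, nat_lit 2, nat_lit 4, nat_lit 0, nat_lit 2, nat_lit 0, nat_lit 1]) (.leaf (nat_lit 210) (nat_lit 2) [nat_lit 0, nat_lit 2, nat_lit 5, nat_lit 1, nat_lit 0, nat_lit 4, nat_lit 1, nat_lit 0, nat_lit 2, nat_lit 0, nat_lit 1, nat_lit 0, nat_lit 5, nat_lit 0, nat_lit 2, nat_lit 4, nat_lit 0, nat_lit 2, nat_lit 0])) (.node (nat_lit 212) (.leaf (nat_lit 211) (nat_lit 0) [nat_lit 1, nat_lit 0, nat_lit 2, nat_lit 5, nat_lit 1, nat_lit 0, nat_lit 4, nat_lit 1, nat_lit 0, nat_lit 2, nat_lit 0, nat_lit 1, nat_lit 0, nat_lit 5, nat_lit 0, nat_lit 2, nat_lit 4, nat_lit 0, nat_lit 2]) (.leaf (nat_lit 212) (nat_lit 1) [nat_lit 0, nat_lit 1, nat_lit 0, nat_lit 2, nat_lit 5, nat_lit 1, nat_lit 0, nat_lit 4, nat_lit 1, nat_lit 0, nat_lit 2, nat_lit 0, nat_lit 1, nat_lit 0, nat_lit 5, nat_lit 0, nat_lit 2, nat_lit 4, nat_lit 0])))))) (.node (nat_lit 228) (.node (nat_lit 220) (.node (nat_lit 216) (.node (nat_lit 214) (.leaf (nat_lit 213) (nat_lit 0) [nat_lit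 2, nat_lit 0, nat_lit 1, nat_lit 0, nat_lit 2, nat_lit 5, nat_lit 1, nat_lit 0, nat_lit 4, nat_lit 1, nat_lit 0, nat_lit 2, nat_lit 0, nat_lit 1, nat_lit 0, nat_lit 5, nat_lit 0, nat_lit 2, nat_lit 4]) (.node (nat_lit 215) (.leaf (nat_lit 214) (nat_lit 5) [nat_lit 0, nat_lit 2, nat_lit 0, nat_lit 1, nat_lit 0, nat_lit 2, nat_lit 5, nat_lit 1, nat_lit 0, nat_lit 4, nat_lit 1, nat_lit 0, nat_lit 2, nat_lit 0, nat_lit 1, nat_lit 0, nat_lit 5, nat_lit 0, nat_lit 2]) (.leaf (nat_lit 215) (nat_lit 1) [nat_lit 4, nat_lit 0, nat_lit 2, nat_lit 0, nat_lit 1, nat_lit 0, nat_lit 2, nat_lit 5, nat_lit 1, nat_lit 0, nat_lit 4, nat_lit 1, nat_lit 0, nat_lit 2, nat_lit 0, nat_lit 1, nat_lit 0, nat_lit 5, nat_lit 0]))) (.node (nat_lit 218) (.node (nat_lit 217) (.leaf (nat_lit 216) (nat_lit 0) [nat_lit 2, nat_lit 4, nat_lit 0, nat_lit 2, nat_lit 0, nat_lit 1, nat_lit 0, nat_lit 2, nat_lit 5, nat_lit 1, nat_lit 0, nat_lit 4, nat_lit 1, nat_lit 0, nat_lit 2, nat_lit 0, nat_lit 1, nat_lit 0, nat_lit 5]) (.leaf (nat_lit 217)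 (nat_lit 4) [nat_lit 0, nat_lit 2, nat_lit 4, nat_lit 0, nat_lit 2, nat_lit 0, nat_lit 1, nat_lit 0, nat_lit 2, nat_lit 5, nat_lit 1, nat_lit 0, nat_lit 4, nat_lit 1, nat_lit 0, nat_lit 2, nat_lit 0, nat_lit 1, nat_lit 0])) (.node (nat_lit 219) (.leaf (nat_lit 218) (nat_lit 0) [nat_lit 5, nat_lit 0, nat_lit 2, nat_lit 4, nat_lit 0, nat_lit 2, nat_lit 0, nat_lit 1, nat_lit 0, nat_lit 2, nat_lit 5, nat_lit 1, nat_lit 0, nat_lit 4, nat_lit 1, nat_lit 0, nat_lit 2, nat_lit 0, nat_lit 1]) (.leaf (nat_lit 219) (nat_lit 2) [nat_lit 0, nat_lit 5, nat_lit 0, nat_lit 2, nat_lit 4, nat_lit 0, nat_lit 2, nat_lit 0, nat_lit 1, nat_lit 0, nat_lit 2, nat_lit 5, nat_lit 1, nat_lit 0, nat_lit 4, nat_lit 1, nat_lit 0, nat_lit 2, nat_lit 0])))) (.node (nat_lit 224) (.node (nat_lit 222) (.node (nat_lit 221) (.leaf (nat_lit 220) (nat_lit 0) [nat_lit 1, nat_lit 0, nat_lit 5, nat_lit 0, nat_lit 2, nat_lit 4, nat_lit 0, nat_lit 2, nat_lit 0, nat_lit 1, nat_lit 0, nat_lit 2, nat_lit 5, nat_lit 1, nat_lit 0, nat_lit 4, nat_lit 1,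 nat_lit 0, nat_lit 2]) (.leaf (nat_lit 221) (nat_lit 1) [nat_lit 0, nat_lit 1, nat_lit 0, nat_lit 5, nat_lit 0, nat_lit 2, nat_lit 4, nat_lit 0, nat_lit 2, nat_lit 0, nat_lit 1, nat_lit 0, nat_lit 2, nat_lit 5, nat_lit 1, nat_lit 0, nat_lit 4, nat_lit 1, nat_lit 0])) (.node (nat_lit 223) (.leaf (nat_lit 222) (nat_lit 0) [nat_lit 2, nat_lit 0, nat_lit 1, nat_lit 0, nat_lit 5, nat_lit 0, nat_lit 2, nat_lit 4, nat_lit 0, nat_lit 2, nat_lit 0, nat_lit 1, nat_lit 0, nat_lit 2, nat_lit 5, nat_lit 1, nat_lit 0, nat_lit 4, nat_lit 1]) (.leaf (nat_lit 223) (nat_lit 2) [nat_lit 0, nat_lit 2, nat_lit 0, nat_lit 1, nat_lit 0, nat_lit 5, nat_lit 0, nat_lit 2, nat_lit 4, nat_lit 0, nat_lit 2, nat_lit 0, nat_lit 1, nat_lit 0, nat_lit 2, nat_lit 5, nat_lit 1, nat_lit 0, nat_lit 4]))) (.node (nat_lit 226) (.node (nat_lit 225) (.leaf (nat_lit 224) (nat_lit 1) [nat_lit 5, nat_lit 0, nat_lit 2, nat_lit 4, nat_lit 1, nat_lit 0, nat_lit 2, nat_lit 0, nat_lit 1, nat_lit 0, nat_lit 5, nat_lit 1, nat_lit 0, nat_lit 4, nat_lit 0,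 nat_lit 2, nat_lit 0, nat_lit 1, nat_lit 0]) (.leaf (nat_lit 225) (nat_lit 0) [nat_lit 2, nat_lit 5, nat_lit 0, nat_lit 2, nat_lit 4, nat_lit 1, nat_lit 0, nat_lit 2, nat_lit 0, nat_lit 1, nat_lit 0, nat_lit 5, nat_lit 1, nat_lit 0, nat_lit 4, nat_lit 0, nat_lit 2, nat_lit 0, nat_lit 1])) (.node (nat_lit 227) (.leaf (nat_lit 226) (nat_lit 2) [nat_lit 0, nat_lit 2, nat_lit 5, nat_lit 0, nat_lit 2, nat_lit 4, nat_lit 1, nat_lit 0, nat_lit 2, nat_lit 0, nat_lit 1, nat_lit 0, nat_lit 5, nat_lit 1, nat_lit 0, nat_lit 4, nat_lit 0, nat_lit 2, nat_lit 0]) (.leaf (nat_lit 227) (nat_lit 0) [nat_lit 1, nat_lit 0, nat_lit 2, nat_lit 5, nat_lit 0, nat_lit 2, nat_lit 4, nat_lit 1, nat_lit 0, nat_lit 2, nat_lit 0, nat_lit 1, nat_lit 0, nat_lit 5, nat_lit 1, nat_lit 0, nat_lit 4, nat_lit 0, nat_lit 2]))))) (.node (nat_lit 236) (.node (nat_lit 232) (.node (nat_lit 230) (.node (nat_lit 229) (.leaf (nat_lit 228) (nat_lit 1) [nat_lit 0, nat_lit 1, nat_lit 0, nat_lit 2, nat_lit 5, nat_lit 0, nat_lit 2, nat_lit 4, nat_lit 1,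 nat_lit 0, nat_lit 2, nat_lit 0, nat_lit 1, nat_lit 0, nat_lit 5, nat_lit 1, nat_lit 0, nat_lit 4, nat_lit 0]) (.leaf (nat_lit 229) (nat_lit 0) [nat_lit 2, nat_lit 0, nat_lit 1, nat_lit 0, nat_lit 2, nat_lit 5, nat_lit 0, nat_lit 2, nat_lit 4, nat_lit 1, nat_lit 0, nat_lit 2, nat_lit 0, nat_lit 1, nat_lit 0, nat_lit 5, nat_lit 1, nat_lit 0, nat_lit 4])) (.node (nat_lit 231) (.leaf (nat_lit 230) (nat_lit 5) [nat_lit 0, nat_lit 2, nat_lit 0, nat_lit 1, nat_lit 0, nat_lit 2, nat_lit 5, nat_lit 0, nat_lit 2, nat_lit 4, nat_lit 1, nat_lit 0, nat_lit 2, nat_lit 0, nat_lit 1, nat_lit 0, nat_lit 5, nat_lit 1, nat_lit 0]) (.leaf (nat_lit 231) (nat_lit 0) [nat_lit 4, nat_lit 0, nat_lit 2, nat_lit 0, nat_lit 1, nat_lit 0, nat_lit 2, nat_lit 5, nat_lit 0, nat_lit 2, nat_lit 4, nat_lit 1, nat_lit 0, nat_lit 2, nat_lit 0, nat_lit 1, nat_lit 0, nat_lit 5, nat_lit 1]))) (.node (nat_lit 234) (.node (nat_lit 233) (.leaf (nat_lit 232) (nat_lit 2) [nat_lit 0, nat_lit 4, nat_lit 0, nat_lit 2, nat_lit 0, nat_lit 1, nat_lit 0,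 nat_lit 2, nat_lit 5, nat_lit 0, nat_lit 2, nat_lit 4, nat_lit 1, nat_lit 0, nat_lit 2, nat_lit 0, nat_lit 1, nat_lit 0, nat_lit 5]) (.leaf (nat_lit 233) (nat_lit 4) [nat_lit 1, nat_lit 0, nat_lit 4, nat_lit 0, nat_lit 2, nat_lit 0, nat_lit 1, nat_lit 0, nat_lit 2, nat_lit 5, nat_lit 0, nat_lit 2, nat_lit 4, nat_lit 1, nat_lit 0, nat_lit 2, nat_lit 0, nat_lit 1, nat_lit 0])) (.node (nat_lit 235) (.leaf (nat_lit 234) (nat_lit 0) [nat_lit 5, nat_lit 1, nat_lit 0, nat_lit 4, nat_lit 0, nat_lit 2, nat_lit 0, nat_lit 1, nat_lit 0, nat_lit 2, nat_lit 5, nat_lit 0, nat_lit 2, nat_lit 4, nat_lit 1, nat_lit 0, nat_lit 2, nat_lit 0, nat_lit 1]) (.leaf (nat_lit 235) (nat_lit 2) [nat_lit 0, nat_lit 5, nat_lit 1, nat_lit 0, nat_lit 4, nat_lit 0, nat_lit 2, nat_lit 0, nat_lit 1, nat_lit 0, nat_lit 2, nat_lit 5, nat_lit 0, nat_lit 2, nat_lit 4, nat_lit 1, nat_lit 0, nat_lit 2, nat_lit 0])))) (.node (nat_lit 240) (.node (nat_lit 238) (.node (nat_lit 237) (.leaf (nat_lit 236) (nat_lit 0) [nat_lit 1, nat_lit 0, nat_lit 5,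 nat_lit 1, nat_lit 0, nat_lit 4, nat_lit 0, nat_lit 2, nat_lit 0, nat_lit 1, nat_lit 0, nat_lit 2, nat_lit 5, nat_lit 0, nat_lit 2, nat_lit 4, nat_lit 1, nat_lit 0, nat_lit 2]) (.leaf (nat_lit 237) (nat_lit 1) [nat_lit 0, nat_lit 1, nat_lit 0, nat_lit 5, nat_lit 1, nat_lit 0, nat_lit 4, nat_lit 0, nat_lit 2, nat_lit 0, nat_lit 1, nat_lit 0, nat_lit 2, nat_lit 5, nat_lit 0, nat_lit 2, nat_lit 4, nat_lit 1, nat_lit 0])) (.node (nat_lit 239) (.leaf (nat_lit 238) (nat_lit 0) [nat_lit 2, nat_lit 0, nat_lit 1, nat_lit 0, nat_lit 5, nat_lit 1, nat_lit 0, nat_lit 4, nat_lit 0, nat_lit 2, nat_lit 0, nat_lit 1, nat_lit 0, nat_lit 2, nat_lit 5, nat_lit 0, nat_lit 2, nat_lit 4, nat_lit 1]) (.leaf (nat_lit 239) (nat_lit 2) [nat_lit 0, nat_lit 2, nat_lit 0, nat_lit 1, nat_lit 0, nat_lit 5, nat_lit 1, nat_lit 0, nat_lit 4, nat_lit 0, nat_lit 2, nat_lit 0, nat_lit 1, nat_lit 0, nat_lit 2, nat_lit 5, nat_lit 0, nat_lit 2, nat_lit 4]))) (.node (nat_lit 242) (.node (nat_lit 241) (.leaf (nat_lit 240) (nat_lit 5) [nat_lit 1,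 nat_lit 0, nat_lit 2, nat_lit 0, nat_lit 1, nat_lit 0, nat_lit 5, nat_lit 1, nat_lit 0, nat_lit 4, nat_lit 0, nat_lit 2, nat_lit 0, nat_lit 1, nat_lit 0, nat_lit 2, nat_lit 5, nat_lit 0, nat_lit 2]) (.leaf (nat_lit 241) (nat_lit 1) [nat_lit 4, nat_lit 1, nat_lit 0, nat_lit 2, nat_lit 0, nat_lit 1, nat_lit 0, nat_lit 5, nat_lit 1, nat_lit 0, nat_lit 4, nat_lit 0, nat_lit 2, nat_lit 0, nat_lit 1, nat_lit 0, nat_lit 2, nat_lit 5, nat_lit 0])) (.node (nat_lit 243) (.leaf (nat_lit 242) (nat_lit 0) [nat_lit 2, nat_lit 4, nat_lit 1, nat_lit 0, nat_lit 2, nat_lit 0, nat_lit 1, nat_lit 0, nat_lit 5, nat_lit 1, nat_lit 0, nat_lit 4, nat_lit 0, nat_lit 2, nat_lit 0, nat_lit 1, nat_lit 0, nat_lit 2, nat_lit 5]) (.leaf (nat_lit 243) (nat_lit 4) [nat_lit 0, nat_lit 2, nat_lit 4, nat_lit 1, nat_lit 0, nat_lit 2, nat_lit 0, nat_lit 1, nat_lit 0, nat_lit 5, nat_lit 1, nat_lit 0, nat_lit 4, nat_lit 0, nat_lit 2, nat_lit 0, nat_lit 1, nat_lit 0, nat_lit 2]))))))))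
/-- the relators -/
def relsL : List (List ℕ) := [[nat_lit 0, nat_lit 0],
  [nat_lit 1, nat_lit 1, nat_lit 1],
  [nat_lit 1, nat_lit 0, nat_lit 1, nat_lit 0, nat_lit 1, nat_lit 0, nat_lit 1, nat_lit 0, nat_lit 1, nat_lit 0],
  [nat_lit 3, nat_lit 3],
  [nat_lit 0, nat_lit 3, nat_lit 0, nat_lit 3],
  [nat_lit 2, nat_lit 3, nat_lit 1, nat_lit 3],
  [nat_lit 4, nat_lit 4, nat_lit 4, nat_lit 4, nat_lit 4, nat_lit 4, nat_lit 4],
  [nat_lit 5, nat_lit 5, nat_lit 2, nat_lit 4, nat_lit 1],
  [nat_lit 0, nat_lit 1, nat_lit 0, nat_lit 2, nat_lit 0, nat_lit 5, nat_lit 3, nat_lit 4],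
  [nat_lit 2, nat_lit 0, nat_lit 1, nat_lit 0, nat_lit 2, nat_lit 0, nat_lit 1, nat_lit 5, nat_lit 0, nat_lit 1, nat_lit 0, nat_lit 2, nat_lit 0, nat_lit 4],
  [nat_lit 3, nat_lit 0, nat_lit 1, nat_lit 0, nat_lit 2, nat_lit 0, nat_lit 5, nat_lit 2, nat_lit 0, nat_lit 1, nat_lit 0, nat_lit 2, nat_lit 0, nat_lit 1, nat_lit 4],
  [nat_lit 0, nat_lit 1, nat_lit 0, nat_lit 2, nat_lit 0, nat_lit 0, nat_lit 1, nat_lit 0, nat_lit 2, nat_lit 0],
  [nat_lit 1, nat_lit 0, nat_lit 1, nat_lit 0, nat_lit 2, nat_lit 0, nat_lit 1, nat_lit 0, nat_lit 1, nat_lit 0, nat_lit 2, nat_lit 0, nat_lit 1, nat_lit 0, nat_lit 1, nat_lit 0, nat_lit 2, nat_lit 0],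
  [nat_lit 5, nat_lit 0, nat_lit 2, nat_lit 4, nat_lit 1, nat_lit 0, nat_lit 2, nat_lit 0, nat_lit 1, nat_lit 0, nat_lit 5, nat_lit 1, nat_lit 0, nat_lit 4, nat_lit 0, nat_lit 2, nat_lit 0, nat_lit 1, nat_lit 0, nat_lit 2]]
/-- the subgroup words -/
def hwL : List (List ℕ) := [[nat_lit 0, nat_lit 1, nat_lit 0, nat_lit 2, nat_lit 0],
  [nat_lit 1],
  [nat_lit 3],
  [nat_lit 4]]

/-- the certificate -/
noncomputable def cfg : Cfg :=
  mkCfg (fun k => TT.fld tE (nat_lit 92) (nat_lit 1023) (nat_lit 4951760157141521099596496895) k)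
    (nat_lit 1267) (nat_lit 1) (nat_lit 181) (nat_lit 6) (nat_lit 7)
    (fun x => List.getD [nat_lit 0, nat_lit 2, nat_lit 1, nat_lit 3, nat_lit 5, nat_lit 4, nat_lit 6] x x)
    (fun k => TT.fld tP (nat_lit 32) (nat_lit 1023) (nat_lit 4294967295) k)
    (fun k => TT.fld tQ (nat_lit 32) (nat_lit 1023) (nat_lit 4294967295) k)
    rT hwL

/-- the orbit certificate -/
noncomputable def oc : OCert where
  oid := fun j => Nat.land (TT.fld tO (nat_lit 64) (nat_lit 1023) (nat_lit 18446744073709551615) j) (nat_lit 65535)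
  prnt := fun j => Nat.land (Nat.shiftRight (TT.fld tO (nat_lit 64) (nat_lit 1023) (nat_lit 18446744073709551615) j) (nat_lit 16)) (nat_lit 16777215)
  pw := fun j => Nat.land (Nat.shiftRight (TT.fld tO (nat_lit 64) (nat_lit 1023) (nat_lit 18446744073709551615) j) (nat_lit 40)) (nat_lit 255)
  rk := fun j => Nat.shiftRight (TT.fld tO (nat_lit 64) (nat_lit 1023) (nat_lit 18446744073709551615) j) (nat_lit 48)
  rep := fun d => List.getD [] d 0

/-- the relators -/
def rsL : List (FreeGroup (Fin 4)) := Cfsg.Agent.Lib.J1Ord.Pres.relB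

/-- the group side of the certificate -/
def D : Data (Fin 4) where
  lets := [(0,true),(1,true),(1,false),(2,true),(3,true),(3,false)]
  rs := rsL
  Hs := Cfsg.Agent.Lib.J1Ord.Pres.Hgens
  rels := relsL
  hw := hwL

end Cfsg.Agent.Lib.Compute.TC.J1PB
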